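import Mathlib.GroupTheory.Transfer
import Mathlib.GroupTheory.SpecificGroups.Cyclic
import Mathlib.LinearAlgebra.Matrix.SpecialLinearGroup
import Mathlib.Data.ZMod.Basic
import Cfsg.Agent.Lib.PGroup.Basic

/-!
# Subgroups of index two, and recognition of `SL(2,3)`
-/

set_option autoImplicit false

namespace Cfsg.Agent.SharplyLinear

open Subgroup

variable {G : Type*} [Group G] [Finite G]

theorem exists_index_two_of_isPGroup_quotient (N : Subgroup G) [N.Normal] (h : IsPGroup 2 (G ⧸ N))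
    (hne : N ≠ ⊤) : ∃ M : Subgroup G, M.Normal ∧ M.index = 2 := by
  haveI : Fact (Nat.Prime 2) := ⟨Nat.prime_two⟩
  have hne' : (⊥ : Subgroup (G ⧸ N)) ≠ ⊤ := fun e => hne (by
    rw [← QuotientGroup.ker_mk' N, ← MonoidHom.comap_bot, e, comap_top])
  obtain ⟨M, hM⟩ := (Set.toFinite {M : Subgroup (G ⧸ N) | M ≠ ⊤}).exists_maximal ⟨⊥, hne'⟩
  have hco : IsCoatom M := ⟨hM.1, fun K hK => by_contra fun hK' => hK.not_ge (hM.2 hK' hK.le)⟩
  haveI := PGroup.normal_of_isCoatom h hco
  exact ⟨M.comap (QuotientGroup.mk' N), inferInstance, by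
    rw [index_comap_of_surjective _ (QuotientGroup.mk'_surjective N), PGroup.index_of_isCoatom h hco]⟩

theorem exists_index_two_of_comm_quotient (N : Subgroup G) [N.Normal]
    (hc : ∀ x y : G, x * y * x⁻¹ * y⁻¹ ∈ N) (h : 2 ∣ N.index) :
    ∃ M : Subgroup G, M.Normal ∧ M.index = 2 := by
  haveI : Fact (Nat.Prime 2) := ⟨Nat.prime_two⟩
  have hcomm : ∀ u v : G ⧸ N, u * v = v * u := by
    intro u v
    obtain ⟨x, rfl⟩ := QuotientGroup.mk'_surjective N u
    obtain ⟨y, rfl⟩ := QuotientGroup.mk'_surjective N v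
    have := (QuotientGroup.eq_one_iff (N := N) _).mpr (hc x y)
    change QuotientGroup.mk' N (x * y * x⁻¹ * y⁻¹) = 1 at this
    rw [map_mul, map_mul, map_mul, map_inv, map_inv] at this
    exact mul_inv_eq_iff_eq_mul.mp (mul_inv_eq_one.mp this)
  letI : CommGroup (G ⧸ N) := { (inferInstance : Group (G ⧸ N)) with mul_comm := hcomm }
  let sq : (G ⧸ N) →* (G ⧸ N) := powMonoidHom 2
  let M : Subgroup G := sq.range.comap (QuotientGroup.mk' N)
  have hMn : M.Normal := Subgroup.Normal.comap inferInstance _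
  refine exists_index_two_of_isPGroup_quotient M (fun u => ⟨1, ?_⟩) ?_
  · obtain ⟨x, rfl⟩ := QuotientGroup.mk'_surjective M u
    rw [← map_pow]
    exact (QuotientGroup.eq_one_iff (N := M) _).mpr ⟨QuotientGroup.mk' N x, by simp [sq]⟩
  · intro e
    obtain ⟨t, ht⟩ := exists_prime_orderOf_dvd_card' 2 (show 2 ∣ Nat.card (G ⧸ N) from h)
    have hsurj : Function.Surjective sq := fun u => by
      obtain ⟨x, rfl⟩ := QuotientGroup.mk'_surjective N u
      exact (show x ∈ M from e ▸ mem_top x)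
    have hinj := Finite.injective_iff_surjective.mpr hsurj
    have h1 : t = 1 := hinj (by simp [sq, ← ht, pow_orderOf_eq_one])
    rw [h1, orderOf_one] at ht
    omega

/-- A cyclic normal subgroup with abelian quotient in a group of even order. -/
theorem exists_index_two_of_cyclic_normal (C : Subgroup G) [C.Normal] [IsCyclic C]
    (hc : ∀ x y : G, x * y * x⁻¹ * y⁻¹ ∈ C) (h : 2 ∣ Nat.card G) :
    ∃ M : Subgroup G, M.Normal ∧ M.index = 2 := by
  by_cases hi : 2 ∣ C.index
  · exact exists_index_two_of_comm_quotient C hc hi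
  haveI : Fact (Nat.Prime 2) := ⟨Nat.prime_two⟩
  let P₀ : Sylow 2 C := default
  let P : Subgroup G := (P₀ : Subgroup C).map C.subtype
  have hPp : IsPGroup 2 P := P₀.isPGroup'.map _
  have hPi : ¬ 2 ∣ P.index := by
    intro hd
    rw [show P.index = (P₀ : Subgroup C).index * C.index from index_map_subtype _] at hd
    exact ((Nat.prime_two.dvd_mul.mp hd).elim P₀.not_dvd_index hi)
  let S : Sylow 2 G := hPp.toSylow hPi
  haveI : IsCyclic ↥(S : Subgroup G) := by
    haveI : IsCyclic ↥P :=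
      isCyclic_of_surjective _ (C.subtype.subgroupMap_surjective (P₀ : Subgroup C))
    exact ‹IsCyclic ↥P›
  have hcard : 1 < Nat.card G := lt_of_lt_of_le Nat.one_lt_two (Nat.le_of_dvd Nat.card_pos h)
  have hmin : (Nat.card G).minFac = 2 := le_antisymm (Nat.minFac_le_of_dvd le_rfl h) (Nat.minFac_prime (by omega)).two_le
  have hcomp := MonoidHom.ker_transferSylow_isComplement' S (IsCyclic.normalizer_le_centralizer hmin ‹_›)
  set K := (MonoidHom.transferSylow S (IsCyclic.normalizer_le_centralizer hmin ‹_›)).ker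
  refine exists_index_two_of_isPGroup_quotient K ?_ fun e => ?_
  · intro u
    obtain ⟨k, hk⟩ := IsPGroup.iff_card.mp S.isPGroup'
    refine ⟨k, ?_⟩
    rw [← hk, ← hcomp.symm.index_eq_card]
    exact pow_card_eq_one'
  · have h1 := hcomp.symm.index_eq_card
    rw [e, index_top] at h1
    have h2 := S.card_mul_index
    rw [← h1, one_mul] at h2
    exact S.not_dvd_index (h2 ▸ h)

omit [Finite G] in
/-- The multiplication rules of `Q₈ ⋊ C₃`. -/
theorem step_rules {a b t : G} (h1 : a ^ 4 = 1) (h2 : b * b = a * a) (h3 : b * a = a ^ 3 * b)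
    (h4 : t * t * t = 1) (h5 : t * a = b * t) (h6 : t * b = a * b * t) :
    ∀ i : ℕ,
      (a ^ i * a = a ^ (i + 1) ∧ a ^ i * b * a = a ^ (i + 3) * b ∧ a ^ i * t * a = a ^ i * b * t ∧
        a ^ i * b * t * a = a ^ (i + 2) * t ∧ a ^ i * (t * t) * a = a ^ (i + 1) * b * (t * t) ∧
        a ^ i * b * (t * t) * a = a ^ (i + 1) * (t * t)) ∧
      (a ^ i * b * b = a ^ (i + 2) ∧ a ^ i * t * b = a ^ (i + 1) * b * t ∧
        a ^ i * b * t * b = a ^ (i + 1) * t ∧ a ^ i * (t * t) * b = a ^ (i + 1) * (t * t) ∧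
        a ^ i * b * (t * t) * b = a ^ (i + 3) * b * (t * t)) := by
  intro i
  have e1 : b * b = a ^ 2 := by rw [h2, pow_two]
  have e2 : t * t * a = a * b * (t * t) := by
    calc t * t * a = t * (t * a) := by group
      _ = t * b * t := by rw [h5]; group
      _ = a * b * (t * t) := by rw [h6]; group
  have e3 : b * a * b = a := by
    calc b * a * b = a ^ 3 * (b * b) := by rw [h3]; group
      _ = a ^ 4 * a := by rw [e1]; group
      _ = a := by rw [h1, one_mul]
  have e4 : t * t * b = a * (t * t) := by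
    calc t * t * b = t * (t * b) := by group
      _ = t * a * (b * t) := by rw [h6]; group
      _ = b * (t * b) * t := by rw [h5]; group
      _ = b * a * b * (t * t) := by rw [h6]; group
      _ = a * (t * t) := by rw [e3]
  have e5 : a ^ i * a ^ 3 * a ^ 2 = a ^ (i + 1) := by
    rw [← pow_add, ← pow_add, show i + 3 + 2 = i + 1 + 4 by omega, pow_add, h1, mul_one]
  refine ⟨⟨(pow_succ a i).symm, ?_, ?_, ?_, ?_, ?_⟩, ?_, ?_, ?_, ?_, ?_⟩
  · rw [mul_assoc, h3, ← mul_assoc, ← pow_add]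
  · rw [mul_assoc, h5, mul_assoc]
  · rw [mul_assoc _ t a, h5, ← mul_assoc, mul_assoc _ b b, e1, ← pow_add]
  · rw [mul_assoc (a ^ i) (t * t) a, e2, pow_succ]; group
  · rw [mul_assoc (a ^ i * b) (t * t) a, e2,
      show a ^ i * b * (a * b * (t * t)) = a ^ i * (b * a * b) * (t * t) by group, e3, ← pow_succ]

  · rw [mul_assoc, e1, ← pow_add]
  · rw [mul_assoc, h6, ← mul_assoc, ← mul_assoc, ← pow_succ]
  · rw [mul_assoc _ t b, h6, ← mul_assoc, ← mul_assoc, mul_assoc _ b a, h3, ← mul_assoc,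
      mul_assoc _ b b, e1, e5]
  · rw [mul_assoc, e4, ← mul_assoc, ← pow_succ]
  · rw [mul_assoc (a ^ i * b) (t * t) b, e4,
      show a ^ i * b * (a * (t * t)) = a ^ i * (b * a) * (t * t) by group, h3, ← mul_assoc (a ^ i) (a ^ 3) b, ← pow_add]

omit [Finite G] in
/-- Two groups of order 24 generated by `a, b, t` with the relations of `SL(2,3)` are isomorphic. -/
theorem nonempty_equiv_of_relations {X Y : Type*} [Group X] [Group Y] [Finite X] [Finite Y]
    (hX : Nat.card X = 24) (hY : Nat.card Y = 24) {a b t : X} {a' b' t' : Y}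
    (r : a ^ 4 = 1 ∧ b * b = a * a ∧ b * a = a ^ 3 * b ∧ t * t * t = 1 ∧ t * a = b * t ∧ t * b = a * b * t)
    (r' : a' ^ 4 = 1 ∧ b' * b' = a' * a' ∧ b' * a' = a' ^ 3 * b' ∧ t' * t' * t' = 1 ∧ t' * a' = b' * t' ∧
      t' * b' = a' * b' * t')
    (hgen : closure ({a, b, t} : Set X) = ⊤) (hgen' : closure ({a', b', t'} : Set Y) = ⊤) :
    Nonempty (X ≃* Y) := by
  -- the pairs of equal words
  let w : Fin 4 × Fin 2 × Fin 3 → X × Y := fun u =>
    (a ^ (u.1 : ℕ) * b ^ (u.2.1 : ℕ) * t ^ (u.2.2 : ℕ), a' ^ (u.1 : ℕ) * b' ^ (u.2.1 : ℕ) * t' ^ (u.2.2 : ℕ))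
  let T : Set (X × Y) := Set.range w
  have hmk : ∀ i j k : ℕ, j < 2 → k < 3 → (a ^ i * b ^ j * t ^ k, a' ^ i * b' ^ j * t' ^ k) ∈ T := by
    intro i j k hj hk
    refine ⟨(⟨i % 4, Nat.mod_lt _ (by omega)⟩, ⟨j, hj⟩, ⟨k, hk⟩), ?_⟩
    show (a ^ (i % 4) * b ^ j * t ^ k, a' ^ (i % 4) * b' ^ j * t' ^ k) = _
    rw [← pow_eq_pow_mod i r.1, ← pow_eq_pow_mod i r'.1]
  obtain ⟨r1, r2, r3, r4, r5, r6⟩ := r
  obtain ⟨s1, s2, s3, s4, s5, s6⟩ := r'
  have hmul : ∀ x ∈ T, ∀ g ∈ ({(a, a'), (b, b'), (t, t')} : Set (X × Y)), x * g ∈ T := by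
    rintro _ ⟨⟨⟨i, hi⟩, ⟨j, hj⟩, ⟨k, hk⟩⟩, rfl⟩ g hg
    obtain ⟨⟨A1, A2, A3, A4, A5, A6⟩, B1, B2, B3, B4, B5⟩ := step_rules r1 r2 r3 r4 r5 r6 i
    obtain ⟨⟨C1, C2, C3, C4, C5, C6⟩, D1, D2, D3, D4, D5⟩ := step_rules s1 s2 s3 s4 s5 s6 i
    have q0 := hmk i 0; have q1 := hmk i 1; have p1 := hmk (i + 1) 0; have p1' := hmk (i + 1) 1
    have p2 := hmk (i + 2) 0; have p3 := hmk (i + 3) 1
    simp only [pow_zero, pow_one, mul_one] at q0 q1 p1 p1' p2 p3
    rcases hg with rfl | rfl | rfl <;> interval_cases j <;> interval_cases k <;>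
      simp only [w, pow_zero, pow_one, pow_two, mul_one, Prod.mk_mul_mk]
    · rw [A1, C1]; simpa using p1 0 (by omega) (by omega)
    · rw [A3, C3]; simpa using q1 1 (by omega) (by omega)
    · rw [A5, C5]; simpa [pow_two] using p1' 2 (by omega) (by omega)
    · rw [A2, C2]; simpa using p3 0 (by omega) (by omega)
    · rw [A4, C4]; simpa using p2 1 (by omega) (by omega)
    · rw [A6, C6]; simpa [pow_two] using p1 2 (by omega) (by omega)
    · simpa using q1 0 (by omega) (by omega)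
    · rw [B2, D2]; simpa using p1' 1 (by omega) (by omega)
    · rw [B4, D4]; simpa [pow_two] using p1 2 (by omega) (by omega)
    · rw [B1, D1]; simpa using p2 0 (by omega) (by omega)
    · rw [B3, D3]; simpa using p1 1 (by omega) (by omega)
    · rw [B5, D5]; simpa [pow_two] using p3 2 (by omega) (by omega)
    · simpa using q0 1 (by omega) (by omega)
    · simpa [mul_assoc, pow_two] using q0 2 (by omega) (by omega)
    · rw [mul_assoc (a ^ i), r4, mul_one, mul_assoc (a' ^ i), s4, mul_one]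
      simpa using q0 0 (by omega) (by omega)
    · simpa using q1 1 (by omega) (by omega)
    · simpa [mul_assoc, pow_two] using q1 2 (by omega) (by omega)
    · rw [mul_assoc (a ^ i * b), r4, mul_one, mul_assoc (a' ^ i * b'), s4, mul_one]
      simpa using q1 0 (by omega) (by omega)
  let Γ : Subgroup (X × Y) := closure {(a, a'), (b, b'), (t, t')}
  have hsub : (Γ : Set (X × Y)) ⊆ T := by
    intro x hx
    have hx' : x ∈ Submonoid.closure ({(a, a'), (b, b'), (t, t')} : Set (X × Y)) := by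
      rw [← Subgroup.closure_toSubmonoid_of_finite]; exact hx
    have h1 : (1 : X × Y) ∈ T := by
      show ((1 : X), (1 : Y)) ∈ T
      simpa using hmk 0 0 0 (by omega) (by omega)
    suffices ∀ y ∈ T, y * x ∈ T by simpa using this 1 h1
    clear hx
    induction hx' using Submonoid.closure_induction with
    | mem g hg => exact fun y hy => hmul y hy g hg
    | one => intro y hy; simpa using hy
    | mul u v _ _ hu hv =>
      intro y hy
      rw [← mul_assoc]
      exact hv _ (hu _ hy)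
  have hle : Nat.card Γ ≤ 24 := by
    refine le_trans (Nat.card_mono (Set.toFinite T) hsub) (le_trans (Finite.card_range_le w) ?_)
    simp
  have hfst : Function.Surjective ((MonoidHom.fst X Y).comp Γ.subtype) := by
    rw [← MonoidHom.range_eq_top, MonoidHom.range_comp, range_subtype, MonoidHom.map_closure, eq_top_iff,
      ← hgen]
    simp [Set.image_insert_eq]
  have hsnd : Function.Surjective ((MonoidHom.snd X Y).comp Γ.subtype) := by
    rw [← MonoidHom.range_eq_top, MonoidHom.range_comp, range_subtype, MonoidHom.map_closure, eq_top_iff,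
      ← hgen']
    simp [Set.image_insert_eq]
  have hΓ : Nat.card Γ = 24 := le_antisymm hle (hX ▸ Nat.card_le_card_of_surjective _ hfst)
  have e1 := MulEquiv.ofBijective _ ((Nat.bijective_iff_surjective_and_card _).mpr ⟨hfst, hΓ.trans hX.symm⟩)
  have e2 := MulEquiv.ofBijective _ ((Nat.bijective_iff_surjective_and_card _).mpr ⟨hsnd, hΓ.trans hY.symm⟩)
  exact ⟨e1.symm.trans e2⟩

end Cfsg.Agent.SharplyLinear
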