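import Cfsg.Agent.Lib.SharplyLinear.IndexTwo
import Cfsg.Agent.Lib.GL.Basic

/-!
# `SL(2,3)` by generators and relations
-/

set_option autoImplicit false

namespace Cfsg.Agent.SharplyLinear

open Subgroup Matrix

local notation "S₃" => Matrix.SpecialLinearGroup (Fin 2) (ZMod 3)

/-- A group of order 24 with the relations of `SL(2,3)` is `SL(2,3)`. -/
theorem nonempty_equiv_SL23 {X : Type*} [Group X] [Finite X] (hX : Nat.card X = 24) {a b t : X}
    (r : a ^ 4 = 1 ∧ b * b = a * a ∧ b * a = a ^ 3 * b ∧ t * t * t = 1 ∧ t * a = b * t ∧ t * b = a * b * t)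
    (hgen : Subgroup.closure ({a, b, t} : Set X) = ⊤) : Nonempty (X ≃* S₃) := by
  let A : S₃ := ⟨!![0, -1; 1, 0], by decide⟩
  let B : S₃ := ⟨!![1, 1; 1, 2], by decide⟩
  let T : S₃ := ⟨!![1, 1; 0, 1], by decide⟩
  have hT : ∀ c : ZMod 3, Matrix.SpecialLinearGroup.transvection (show (0 : Fin 2) ≠ 1 by decide) c =
      T ^ c.val := by decide
  have hT' : ∀ c : ZMod 3, Matrix.SpecialLinearGroup.transvection (show (1 : Fin 2) ≠ 0 by decide) c =
      A * T ^ (-c).val * A⁻¹ := by decide
  refine nonempty_equiv_of_relations hX ?_ r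
    (a' := A) (b' := B) (t' := T) (by refine ⟨?_, ?_, ?_, ?_, ?_, ?_⟩ <;> decide) hgen ?_
  · rw [Nat.card_eq_fintype_card]; decide
  · refine GL.SL_eq_top_of_transvection_mem fun i j hij c => ?_
    have hA : A ∈ Subgroup.closure ({A, B, T} : Set S₃) := subset_closure (by simp)
    have hTm : T ∈ Subgroup.closure ({A, B, T} : Set S₃) := subset_closure (by simp)
    fin_cases i <;> fin_cases j
    · exact absurd rfl hij
    · exact (hT c).symm ▸ pow_mem hTm _
    · exact (hT' c).symm ▸ mul_mem (mul_mem hA (pow_mem hTm _)) (inv_mem hA)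
    · exact absurd rfl hij

end Cfsg.Agent.SharplyLinear
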