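import Cfsg.Agent.Lib.SharplyLinear.Radical
import Cfsg.Agent.Lib.SharplyLinear.IndexTwo
import Cfsg.Agent.Lib.SharplyLinear.SL23

/-!
# Soluble exceptional regular linear groups: degrees and structure
-/

set_option autoImplicit false
set_option linter.style.haveILetI false

namespace Cfsg.Agent.SharplyLinear

open Subgroup

local notation "Q₈" => QuaternionGroup 2
local notation "S₃" => Matrix.SpecialLinearGroup (Fin 2) (ZMod 3)

theorem eq_one_of_cube_eq_one : ∀ c : ZMod 5, c ^ 3 = 1 → c = 1 := by decide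

/-- The arithmetic of the degrees. -/
theorem degree_cases {p k n a e : ℕ} (hp : p.Prime) (hk : 1 ≤ k) (hn : 2 * k ≤ n) (ha : a ∣ p ^ k - 1)
    (h2 : 2 ∣ a) (he : e ∣ 6) (hcard : 4 * e * a + 1 = p ^ n) :
    n = 2 ∧ k = 1 ∧ (p = 3 ∧ e = 1 ∧ a = 2 ∨
      (p = 5 ∨ p = 7 ∨ p = 11 ∨ p = 23) ∧ (e = 2 ∨ e = 6 ∨ e = 3 ∧ (p = 5 ∧ a = 2 ∨ p = 11 ∧ a = 10))) := by
  have hp2 := hp.two_le
  have hpk : 1 < p ^ k := Nat.one_lt_pow (by omega) hp2
  have hale : a ≤ p ^ k - 1 := Nat.le_of_dvd (by omega) ha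
  have he6 : e ≤ 6 := Nat.le_of_dvd (by norm_num) he
  have hodd : p ≠ 2 := fun h => by
    subst h
    have h3 := dvd_trans h2 ha
    have := dvd_pow_self 2 (show k ≠ 0 by omega)
    omega
  have hp3 : 3 ≤ p := by omega
  have hle : p ^ n ≤ 24 * (p ^ k - 1) + 1 := by
    rw [← hcard]
    have := Nat.mul_le_mul (show 4 * e ≤ 24 by omega) hale
    omega
  have hsq : p ^ k * p ^ k ≤ p ^ n := by
    rw [← pow_add]; exact Nat.pow_le_pow_right (by omega) (by omega)
  have hlt : p ^ k ≤ 23 := by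
    by_contra hcon
    have := Nat.mul_le_mul_right (p ^ k) (show 24 ≤ p ^ k by omega)
    omega
  have hk2 : k ≤ 2 := by
    by_contra hcon
    have h4 := Nat.pow_le_pow_right (show 0 < p by omega) (show 3 ≤ k by omega)
    have h5 := Nat.pow_le_pow_left hp3 3
    omega
  have hn5 : n ≤ 5 := by
    by_contra hcon
    have h4 := Nat.pow_le_pow_right (show 0 < p by omega) (show 6 ≤ n by omega)
    have h5 := Nat.pow_le_pow_left hp3 6
    omega
  have hp23 : p ≤ 23 := by
    have := Nat.le_self_pow (show k ≠ 0 by omega) p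
    omega
  obtain rfl | rfl | rfl | rfl : e = 1 ∨ e = 2 ∨ e = 3 ∨ e = 6 := by
    interval_cases e <;> revert he <;> decide
  all_goals
    interval_cases k <;> interval_cases p <;> first
      | exact absurd hp (by decide)
      | (interval_cases n <;> norm_num at * <;> first | omega | (interval_cases a <;> omega))

/-- Conjugation of the quaternion radical permutes the three classes. -/
theorem exists_class_perm {G : Type*} [Group G] (A : Subgroup G) (ι : Q₈ →* G) (hinj : Function.Injective ι)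
    (hnorm : ι.range.Normal) (hcent : ∀ h : G, (∀ q, h * ι q = ι q * h) ↔ h ∈ A) :
    ∃ π : G →* Equiv.Perm (Fin 3), π.ker = ι.range ⊔ A ∧ ∀ (h : G) (i : Fin 3), ∃ q : Q₈,
      h * ι (Quat.rep i) * h⁻¹ = ι q ∧ q * q = Quat.z ∧ Quat.cls q = π h i := by
  classical
  have hex : ∀ (h : G) (q : Q₈), ∃ q', h * ι q * h⁻¹ = ι q' := fun h q => by
    obtain ⟨q', hq'⟩ := hnorm.conj_mem _ ⟨q, rfl⟩ h
    exact ⟨q', hq'.symm⟩
  choose c hc using hex
  have hmul : ∀ h q r, c h (q * r) = c h q * c h r := fun h q r => hinj (by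
    rw [← hc, map_mul, map_mul, ← hc, ← hc]; group)
  have hone : ∀ q, c 1 q = q := fun q => hinj (by rw [← hc]; group)
  have hcomp : ∀ g h q, c g (c h q) = c (g * h) q := fun g h q => hinj (by
    rw [← hc, ← hc, ← hc]; group)
  have hcinj : ∀ h, Function.Injective (c h) := fun h q r hqr => by
    have := congrArg (c h⁻¹) hqr
    rwa [hcomp, hcomp, inv_mul_cancel, hone, hone] at this
  have hc1 : ∀ h, c h 1 = 1 := fun h => hinj (by rw [← hc, map_one]; group)
  have hcz : ∀ h, c h Quat.z = Quat.z := fun h => Quat.eq_z _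
    (by rw [← hmul, Quat.z_facts.1, hc1]) fun e => Quat.z_facts.2.1 (hcinj h (e.trans (hc1 h).symm))
  let f : G → Fin 3 → Fin 3 := fun h i => Quat.cls (c h (Quat.rep i))
  have hf : ∀ g h i, f (g * h) i = f g (f h i) := by
    intro g h i
    show Quat.cls (c (g * h) (Quat.rep i)) = Quat.cls (c g (Quat.rep (Quat.cls (c h (Quat.rep i)))))
    rw [← hcomp]
    rcases Quat.rep_cls (c h (Quat.rep i)) (fun e => (Quat.rep_ne i).1 (hcinj h (e.trans (hc1 h).symm)))
      (fun e => (Quat.rep_ne i).2.1 (hcinj h (e.trans (hcz h).symm))) with e | e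
    · rw [← e]
    · conv_lhs => rw [e, hmul, hcz, Quat.cls_mul_z]
  have hf1 : ∀ i, f 1 i = i := fun i => by show Quat.cls _ = i; rw [hone, Quat.cls_rep]
  let π : G →* Equiv.Perm (Fin 3) :=
    { toFun := fun h => ⟨f h, f h⁻¹, fun i => by rw [← hf, inv_mul_cancel, hf1],
        fun i => by rw [← hf, mul_inv_cancel, hf1]⟩
      map_one' := Equiv.ext hf1
      map_mul' := fun g h => Equiv.ext (hf g h) }
  have hπ : ∀ h i, π h i = f h i := fun _ _ => rfl
  refine ⟨π, le_antisymm (fun h hh => ?_) (sup_le ?_ fun h hh => ?_), fun h i => ⟨c h (Quat.rep i), hc h _, ?_, (hπ h i).symm⟩⟩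
  · have hfi : ∀ i, Quat.cls (c h (Quat.rep i)) = i := fun i => by
      show f h i = i
      rw [← hπ, MonoidHom.mem_ker.mp hh]
      rfl
    have hcls : ∀ i, c h (Quat.rep i) = Quat.rep i ∨ c h (Quat.rep i) = Quat.rep i * Quat.z := fun i => by
      rcases Quat.rep_cls (c h (Quat.rep i)) (fun e => (Quat.rep_ne i).1 (hcinj h (e.trans (hc1 h).symm)))
        (fun e => (Quat.rep_ne i).2.1 (hcinj h (e.trans (hcz h).symm))) with e | e <;> rw [hfi] at e
      exacts [Or.inl e, Or.inr e]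
    obtain ⟨q, hq1, hq2⟩ := Quat.exists_conj _ _ (hcls 0) (hcls 1)
    have h1 : h = ι q * ((ι q)⁻¹ * h) := by group
    rw [h1]
    refine mul_mem_sup ⟨q, rfl⟩ ((hcent _).mp fun r => ?_)
    have hgen : ∀ r, c h r = q * r * q⁻¹ := by
      intro r
      have e0 : c h (QuaternionGroup.a 1) = q * QuaternionGroup.a 1 * q⁻¹ := by
        rw [hq1, mul_inv_cancel_right]; rfl
      have e1 : c h (QuaternionGroup.xa 0) = q * QuaternionGroup.xa 0 * q⁻¹ := by
        rw [hq2, mul_inv_cancel_right]; rfl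
      let φ : Q₈ →* Q₈ := MonoidHom.mk' (c h) (hmul h)
      obtain ⟨i, rfl | rfl⟩ := Quat.gens r
      · show φ _ = _
        rw [map_pow, show φ (QuaternionGroup.a 1) = _ from e0, conj_pow]
      · show φ _ = _
        rw [map_mul, map_pow, show φ (QuaternionGroup.a 1) = _ from e0, show φ (QuaternionGroup.xa 0) = _ from e1,
          conj_pow]
        group
    have := hc h r
    rw [hgen, map_mul, map_mul, map_inv] at this
    rw [mul_assoc (ι q)⁻¹, show h * ι r = ι q * ι r * (ι q)⁻¹ * h by rw [← this]; group]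
    group
  · rintro _ ⟨q, rfl⟩
    refine MonoidHom.mem_ker.mpr (Equiv.ext fun i => ?_)
    rw [hπ]
    show Quat.cls (c (ι q) (Quat.rep i)) = i
    rw [show c (ι q) (Quat.rep i) = q * Quat.rep i * q⁻¹ from hinj (by rw [← hc, map_mul, map_mul, map_inv])]
    revert i q; decide
  · refine MonoidHom.mem_ker.mpr (Equiv.ext fun i => ?_)
    rw [hπ]
    show Quat.cls (c h (Quat.rep i)) = i
    rw [show c h (Quat.rep i) = Quat.rep i from hinj (by
      rw [← hc, (hcent h).mpr hh (Quat.rep i), mul_inv_cancel_right]), Quat.cls_rep]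
  · rw [← hmul, (Quat.rep_ne i).2.2, hcz]

/-- The shape `Q₈ ⋊ C₃`. -/
theorem exists_subgroup_SL23 {G : Type*} [Group G] [Finite G] (ι : Q₈ →* G) (hinj : Function.Injective ι)
    (hnorm : ι.range.Normal) (π : G →* Equiv.Perm (Fin 3))
    (hπ : ∀ (h : G) (i : Fin 3), ∃ q : Q₈, h * ι (Quat.rep i) * h⁻¹ = ι q ∧ q * q = Quat.z ∧ Quat.cls q = π h i)
    {t : G} (ht : orderOf t = 3) (htπ : π t ≠ 1) :
    ∃ S : Subgroup G, S ≤ ι.range ⊔ zpowers t ∧ Nat.card S = 24 ∧ Nonempty (S ≃* S₃) := by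
  classical
  have ht3 : t * t * t = 1 := by
    rw [mul_assoc, ← pow_three, ← ht, pow_orderOf_eq_one]
  have h3 : π t * π t * π t = 1 := by rw [← map_mul, ← map_mul, ht3, map_one]
  obtain ⟨hn1, hn2, hn3⟩ := Quat.perm_three _ h3 htπ 0
  obtain ⟨q, hq, hqz, hqc⟩ := hπ t 0
  obtain ⟨w, hw, hwz, hwc⟩ := hπ (t * t) 0
  rw [map_mul, Equiv.Perm.mul_apply] at hwc
  -- the three rotating elements
  obtain ⟨x, hx⟩ : ∃ x, x = Quat.rep 0 := ⟨_, rfl⟩
  rw [← hx] at hq hw
  have hxc : Quat.cls x = 0 := by rw [hx, Quat.cls_rep]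
  have hxz : x * x = Quat.z := hx ▸ (Quat.rep_ne 0).2.2
  have r1 : t * ι x = ι q * t := by rw [← hq]; group
  have r2 : t * ι q = ι w * t := by rw [← hw, ← hq]; group
  have r3 : t * ι w = ι x * t := by
    calc t * ι w = (t * t * t) * ι x * (t * t)⁻¹ := by rw [← hw]; group
      _ = ι x * (t * t)⁻¹ := by rw [ht3, one_mul]
      _ = ι x * t := by rw [inv_eq_of_mul_eq_one_right ht3]
  -- choose the orientation
  obtain ⟨x', y', t', ht', hgen', hxy, hxz', hyz', e5, e6⟩ :
      ∃ (x' y' : Q₈) (t' : G), t' * t' * t' = 1 ∧ zpowers t' = zpowers t ∧ Quat.cls x' ≠ Quat.cls y' ∧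
        x' * x' = Quat.z ∧ y' * y' = Quat.z ∧ t' * ι x' = ι y' * t' ∧ t' * ι y' = ι x' * ι y' * t' := by
    rcases Quat.triangle x q w hxz hqz hwz (by rw [hxc, hqc]; exact hn1.symm) (by rw [hxc, hwc]; exact hn2.symm)
        (by rw [hqc, hwc]; exact hn3.symm) with e | e
    · exact ⟨x, q, t, ht3, rfl, by rw [hxc, hqc]; exact hn1.symm, hxz, hqz, r1, by rw [r2, e, map_mul]⟩
    · refine ⟨q, x, t⁻¹, ?_, zpowers_inv, by rw [hxc, hqc]; exact hn1, hqz, hxz, ?_, ?_⟩
      · rw [show t⁻¹ * t⁻¹ * t⁻¹ = (t * t * t)⁻¹ by group, ht3, inv_one]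
      · calc t⁻¹ * ι q = t⁻¹ * (ι q * t) * t⁻¹ := by group
          _ = ι x * t⁻¹ := by rw [← r1]; group
      · rw [← map_mul, ← e]
        calc t⁻¹ * ι x = t⁻¹ * (ι x * t) * t⁻¹ := by group
          _ = ι w * t⁻¹ := by rw [← r3]; group
  obtain ⟨hp1, hp2, hp3⟩ := Quat.pair x' y' hxz' hyz' hxy
  let S : Subgroup G := closure {ι x', ι y', t'}
  have hax : ι x' ∈ S := subset_closure (by simp)
  have hay : ι y' ∈ S := subset_closure (by simp)
  have hat : t' ∈ S := subset_closure (by simp)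
  have hQS : ι.range ≤ S := by
    rintro _ ⟨r, rfl⟩
    obtain ⟨i, rfl | rfl⟩ := hp3 r
    · rw [map_pow]; exact pow_mem hax _
    · rw [map_mul, map_pow]; exact mul_mem (pow_mem hax _) hay
  have hSle : S ≤ ι.range ⊔ zpowers t := by
    rw [closure_le]
    rintro u (rfl | rfl | rfl)
    exacts [mem_sup_left ⟨x', rfl⟩, mem_sup_left ⟨y', rfl⟩, mem_sup_right (hgen' ▸ mem_zpowers u)]
  have hSeq : S = zpowers t ⊔ ι.range := le_antisymm (sup_comm ι.range (zpowers t) ▸ hSle)
    (sup_le (hgen' ▸ zpowers_le.mpr hat) hQS)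
  have hQ : Nat.card ι.range = 8 := by
    rw [← Nat.card_congr (MonoidHom.ofInjective hinj).toEquiv, Nat.card_eq_fintype_card, QuaternionGroup.card]
  have hcard : Nat.card S = 24 := by
    haveI := hnorm
    have h1 := relIndex_mul_relIndex ⊥ ι.range S bot_le hQS
    rw [relIndex_bot_left, relIndex_bot_left, hQ, hSeq, relIndex_sup_right] at h1
    rw [hSeq, ← h1]
    have h2 : ι.range.relIndex (zpowers t) ∣ 3 := by
      rw [← ht, ← Nat.card_zpowers]
      exact index_dvd_card _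
    rcases (Nat.dvd_prime Nat.prime_three).mp h2 with e | e
    · exfalso
      obtain ⟨r, hr⟩ := relIndex_eq_one.mp e (mem_zpowers t)
      have : orderOf t ∣ 8 := by
        rw [← hr, orderOf_injective ι hinj]
        exact (orderOf_dvd_natCard r).trans (by rw [Nat.card_eq_fintype_card, QuaternionGroup.card])
      rw [ht] at this
      norm_num at this
    · rw [e]
  refine ⟨S, hSle, hcard, nonempty_equiv_SL23 hcard (a := ⟨_, hax⟩) (b := ⟨_, hay⟩) (t := ⟨_, hat⟩)
    ⟨Subtype.ext ?_, Subtype.ext ?_, Subtype.ext ?_, Subtype.ext ht', Subtype.ext e5, Subtype.ext e6⟩ ?_⟩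
  · show ι x' ^ 4 = 1
    rw [← map_pow, show x' ^ 4 = x' * x' * (x' * x') by simp only [pow_succ, pow_zero, one_mul, mul_assoc], hp1, map_one]
  · show ι y' * ι y' = ι x' * ι x'
    rw [← map_mul, ← map_mul, hxz', hyz']
  · show ι y' * ι x' = ι x' ^ 3 * ι y'
    rw [← map_mul, hp2, map_mul, show x' * x' * x' = x' ^ 3 by simp only [pow_succ, pow_zero, one_mul, mul_assoc], map_pow]
  · refine map_injective S.subtype_injective ?_
    rw [MonoidHom.map_closure, ← MonoidHom.range_eq_map, range_subtype]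
    simp only [Set.image_insert_eq, Set.image_singleton, coe_subtype]
    rfl

variable {p : ℕ} [Fact p.Prime] {V : Type*} [AddCommGroup V] [Module (ZMod p) V] [Finite V]
variable {H : Subgroup (V ≃ₗ[ZMod p] V)}

/-- The soluble regular linear groups without irreducible cyclic normal subgroups. -/
theorem exceptional_cases [Nontrivial V]
    (hreg : ∀ v w : V, v ≠ 0 → w ≠ 0 → ∃! h : H, (h : V ≃ₗ[ZMod p] V) v = w)
    (hI : ∀ A : Subgroup H, A.Normal → IsCyclic A → ∃ W : Submodule (ZMod p) V,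
      W ≠ ⊥ ∧ W ≠ ⊤ ∧ ∀ a ∈ A, ∀ v ∈ W, ((a : H) : V ≃ₗ[ZMod p] V) v ∈ W)
    (hsolv : Group.IsSolvable H) :
    Nat.card V ∈ ({25, 49, 121, 529} : Set ℕ) ∧
      ((∃ M : Subgroup H, M.Normal ∧ M.index = 2) ∨ (Nat.card V = 25 ∧ Nonempty (H ≃* S₃)) ∨
        (Nat.card V = 121 ∧ Nonempty (H ≃* S₃ × Multiplicative (ZMod 5)))) := by
  classical
  haveI : Finite (V ≃ₗ[ZMod p] V) := finite_group
  haveI : Module.Finite (ZMod p) V := Module.Finite.of_finite
  obtain ⟨A, ι, hAn, hcyc, hinj, hnorm, hzA, hmeet, hcent, W, hWt, hW, hdvd⟩ :=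
    exists_quaternion_radical hreg hI hsolv
  haveI := hAn
  haveI := hnorm
  have hp := (Fact.out : p.Prime)
  obtain ⟨π, hker, hπ⟩ := exists_class_perm A ι hinj hnorm hcent
  -- the orders
  have hQ : Nat.card ι.range = 8 := by
    rw [← Nat.card_congr (MonoidHom.ofInjective hinj).toEquiv, Nat.card_eq_fintype_card, QuaternionGroup.card]
  have hAK : A.relIndex π.ker = 4 := by
    have h1 : A.relIndex π.ker = A.relIndex ι.range := by rw [hker, relIndex_sup_right]
    have h2 := inf_relIndex_right A ι.range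
    have h3 : A ⊓ ι.range = (zpowers Quat.z).map ι := by
      ext u
      constructor
      · rintro ⟨hu, q, rfl⟩
        rcases hmeet q hu with rfl | rfl
        exacts [mem_map_of_mem ι (one_mem _), mem_map_of_mem ι (mem_zpowers _)]
      · rintro ⟨q, ⟨i, rfl⟩, rfl⟩
        exact ⟨by rw [map_zpow]; exact zpow_mem hzA i, _, rfl⟩
    have h4 : Nat.card (A ⊓ ι.range : Subgroup H) = 2 := by
      rw [h3, card_map_of_injective hinj, Nat.card_zpowers]
      exact orderOf_eq_prime (by rw [pow_two]; exact Quat.z_facts.1) Quat.z_facts.2.1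
    have h5 := relIndex_mul_relIndex ⊥ (A ⊓ ι.range) ι.range bot_le inf_le_right
    rw [relIndex_bot_left, relIndex_bot_left, h4, hQ, h2, ← h1] at h5
    omega
  have hcardA : π.ker.index * 4 * Nat.card A = Nat.card H := by
    rw [← A.index_mul_card, ← relIndex_mul_index (show A ≤ π.ker from hker ▸ le_sup_right), hAK]
    ring
  have he : π.ker.index ∣ 6 := by
    rw [index_ker]
    exact (card_subgroup_dvd_card π.range).trans (by rw [Nat.card_perm, Nat.card_eq_fintype_card]; decide)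
  have h2A : 2 ∣ Nat.card A := by
    have h := orderOf_dvd_natCard (⟨_, hzA⟩ : A)
    rwa [orderOf_mk, orderOf_injective ι hinj,
      orderOf_eq_prime (by rw [pow_two]; exact Quat.z_facts.1) Quat.z_facts.2.1] at h
  set n := Module.finrank (ZMod p) V with hn
  set k := Module.finrank (ZMod p) W with hkdef
  have hk : 1 ≤ k := Nat.one_le_iff_ne_zero.mpr fun e => hW.1 (Submodule.finrank_eq_zero.mp e)
  have h2k : 2 * k ≤ n := by
    obtain ⟨w, hw, hw0⟩ := Submodule.exists_mem_ne_zero_of_ne_bot hW.1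
    obtain ⟨x, -, hx⟩ := SetLike.exists_of_lt (lt_top_iff_ne_top.mpr hWt)
    obtain ⟨h, hh, -⟩ := hreg w x hw0 (fun e => hx (e ▸ W.zero_mem))
    set W' := W.map ((h : V ≃ₗ[ZMod p] V) : V →ₗ[ZMod p] V)
    have hW' : Irr A W' := irr_map hW h
    have hxW' : x ∈ W' := ⟨w, hw, hh⟩
    have hdisj : W ⊓ W' = ⊥ := by
      rcases hW.2.2 (W ⊓ W') inf_le_left (fun a ha v hv => ⟨hW.2.1 a ha v hv.1, hW'.2.1 a ha v hv.2⟩) with e | e
      · exact e
      · exfalso
        rcases hW'.2.2 W (inf_eq_left.mp e) hW.2.1 with e' | e'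
        · exact hW.1 e'
        · exact hx (e'.symm ▸ hxW')
    have h1 := Submodule.finrank_sup_add_finrank_inf_eq W W'
    rw [hdisj, finrank_bot, add_zero, LinearEquiv.finrank_map_eq] at h1
    have := Submodule.finrank_le (W ⊔ W')
    omega
  obtain ⟨v₀, hv₀⟩ := exists_ne (0 : V)
  have hV : Nat.card V = p ^ n := by rw [Module.natCard_eq_pow_finrank (K := ZMod p), Nat.card_zmod]
  have hH : Nat.card H + 1 = p ^ n := hV ▸ card_eq hreg hv₀
  obtain ⟨hn2, hk1, hcases⟩ := degree_cases hp hk h2k hdvd h2A he (by rw [← hH, ← hcardA]; ring)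
  rcases hcases with ⟨hp3, he1, ha⟩ | ⟨hp', hcases⟩
  · -- nine points: a cyclic subgroup of order four is normal and irreducible
    exfalso
    subst hp3
    have hQtop : ι.range = ⊤ := eq_top_of_card_eq _ (by rw [hQ, ← hcardA, he1, ha])
    let B : Subgroup H := (zpowers (QuaternionGroup.a 1 : Q₈)).map ι
    haveI : (zpowers (QuaternionGroup.a 1 : Q₈)).Normal := by
      refine ⟨fun u ⟨i, hi⟩ g => ?_⟩
      rw [← hi, ← conj_zpow]
      refine zpow_mem ?_ i
      have hall : ∀ g : Q₈, g * QuaternionGroup.a 1 = QuaternionGroup.a 1 * g ∨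
          g * QuaternionGroup.a 1 = QuaternionGroup.a 1 ^ 3 * g := by decide
      rcases hall g with e | e <;> rw [e, mul_inv_cancel_right]
      exacts [mem_zpowers _, pow_mem (mem_zpowers _) 3]
    have hBn : B.Normal := Normal.map inferInstance ι (MonoidHom.range_eq_top.mp hQtop)
    haveI : IsCyclic B := isCyclic_of_surjective _ (ι.subgroupMap_surjective _)
    obtain ⟨U, hU0, hUt, hUinv⟩ := hI B hBn inferInstance
    obtain ⟨U', hle, hU'⟩ := exists_irr_le B hU0 hUinv
    have hk' : Module.finrank (ZMod 3) U' = 1 := by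
      have := Submodule.finrank_lt (K := ZMod 3) (show U' ≠ ⊤ from fun e => hUt (top_le_iff.mp (e ▸ hle)))
      have h0 : Module.finrank (ZMod 3) U' ≠ 0 := fun e => hU'.1 (Submodule.finrank_eq_zero.mp e)
      omega
    have hd := (cyclic_of_irr hreg hU').2
    rw [hk', card_map_of_injective hinj, Nat.card_zpowers, QuaternionGroup.orderOf_a_one] at hd
    norm_num at hd
  refine ⟨by rw [hV, hn2]; rcases hp' with rfl | rfl | rfl | rfl <;> norm_num, ?_⟩
  have heven : π.ker.index = 2 ∨ π.ker.index = 6 → ∃ M : Subgroup H, M.Normal ∧ M.index = 2 := by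
    intro h
    obtain ⟨⟨σ, hσ⟩, hord⟩ := exists_prime_orderOf_dvd_card' 2
      (show 2 ∣ Nat.card π.range by rw [← index_ker]; rcases h with h | h <;> rw [h]; norm_num)
    rw [orderOf_mk] at hord
    have hsign := Quat.perm_sign σ (by rw [← pow_two, ← hord, pow_orderOf_eq_one]) fun e => by
      rw [e, orderOf_one] at hord; norm_num at hord
    obtain ⟨h₀, rfl⟩ := hσ
    refine ⟨(Equiv.Perm.sign.comp π).ker, inferInstance, ?_⟩
    rw [index_ker, MonoidHom.range_eq_top.mpr fun u => ?_, card_top, Nat.card_eq_fintype_card, Fintype.card_units_int]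
    rcases Int.units_eq_one_or u with rfl | rfl
    exacts [⟨1, map_one _⟩, ⟨h₀, hsign⟩]
  rcases hcases with e2 | e2 | ⟨e3, hpa⟩
  · exact Or.inl (heven (Or.inl e2))
  · exact Or.inl (heven (Or.inr e2))
  right
  obtain ⟨t, ht⟩ := exists_prime_orderOf_dvd_card' (G := H) 3 (by rw [← hcardA, e3, mul_assoc]; exact dvd_mul_right _ _)
  have htπ : π t ≠ 1 := by
    intro e
    have h1 : orderOf t ∣ Nat.card π.ker := by
      have h := orderOf_dvd_natCard (⟨t, MonoidHom.mem_ker.mpr e⟩ : π.ker)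
      rwa [orderOf_mk] at h
    have h2 : Nat.card π.ker = 4 * Nat.card A := by
      have := π.ker.index_mul_card
      rw [← hcardA, e3] at this
      linarith
    rw [ht, h2] at h1
    rcases hpa with ⟨-, ha⟩ | ⟨-, ha⟩ <;> rw [ha] at h1 <;> norm_num at h1
  obtain ⟨S, hSle, hS, ⟨eS⟩⟩ := exists_subgroup_SL23 ι hinj hnorm π hπ ht htπ
  rcases hpa with ⟨rfl, ha⟩ | ⟨rfl, ha⟩
  · refine Or.inl ⟨by rw [hV, hn2]; norm_num, ?_⟩
    have hSt : S = ⊤ := eq_top_of_card_eq _ (by rw [hS, ← hcardA, e3, ha])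
    exact ⟨((MulEquiv.subgroupCongr hSt).trans Subgroup.topEquiv).symm.trans eS⟩
  refine Or.inr ⟨by rw [hV, hn2]; norm_num, ?_⟩
  haveI : Fact (Nat.Prime 5) := ⟨by norm_num⟩
  obtain ⟨⟨u, huA⟩, hu⟩ := exists_prime_orderOf_dvd_card' (G := A) 5 (by rw [ha]; norm_num)
  rw [orderOf_mk] at hu
  -- the element of order five is central
  have huQ : ∀ q, u * ι q = ι q * u := (hcent u).mpr huA
  have hut : u * t = t * u := by
    have hU : zpowers u = (zpowers u) := rfl
    obtain ⟨i, hi⟩ : ∃ i : ℕ, u ^ i = t * u * t⁻¹ := by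
      obtain ⟨g, hg⟩ := hcyc.exists_generator
      obtain ⟨m, hm⟩ := hg ⟨u, huA⟩
      obtain ⟨j, hj⟩ := hg ⟨t * g * t⁻¹, hAn.conj_mem _ g.2 t⟩
      have hm' : (g : H) ^ m = u := by rw [← coe_zpow]; exact congrArg Subtype.val hm
      have hj' : (g : H) ^ j = t * g * t⁻¹ := by rw [← coe_zpow]; exact congrArg Subtype.val hj
      refine mem_powers_iff_mem_zpowers.mpr ⟨j, ?_⟩
      show u ^ j = t * u * t⁻¹
      rw [← hm', ← conj_zpow, ← hj', ← zpow_mul, ← zpow_mul, mul_comm]
    have h1 : u ^ (i ^ 3) = u := by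
      have hstep : ∀ m : ℕ, t * u ^ m * t⁻¹ = u ^ (i * m) := fun m => by rw [← conj_pow, ← hi, ← pow_mul]
      have ht3 : t * t * t = 1 := by rw [mul_assoc, ← pow_three, ← ht, pow_orderOf_eq_one]
      calc u ^ (i ^ 3) = t * (t * (t * u ^ 1 * t⁻¹) * t⁻¹) * t⁻¹ := by
            rw [hstep, hstep, hstep]; congr 1; ring
        _ = (t * t * t) * u * (t * t * t)⁻¹ := by group
        _ = u := by rw [ht3]; group
    have h2 : ((i : ZMod 5)) ^ 3 = 1 := by
      rw [← Nat.cast_one, ← Nat.cast_pow, ZMod.natCast_eq_natCast_iff, ← hu, ← pow_eq_pow_iff_modEq, h1, pow_one]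
    have h3 : (i : ZMod 5) = ((1 : ℕ) : ZMod 5) := by
      rw [eq_one_of_cube_eq_one _ h2, Nat.cast_one]
    rw [ZMod.natCast_eq_natCast_iff, ← hu, ← pow_eq_pow_iff_modEq, pow_one, hi] at h3
    rw [eq_comm, ← mul_inv_eq_iff_eq_mul]
    exact h3
  have hSu : ∀ s ∈ S, u * s = s * u := fun s hs => by
    have h : ι.range ⊔ zpowers t ≤ centralizer {u} := by
      refine sup_le ?_ (zpowers_le.mpr (mem_centralizer_singleton_iff.mpr hut.symm))
      rintro _ ⟨q, rfl⟩
      exact mem_centralizer_singleton_iff.mpr (huQ q).symm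
    exact (mem_centralizer_singleton_iff.mp (h (hSle hs))).symm
  let U := zpowers u
  let f : S × U →* H :=
    MonoidHom.noncommCoprod S.subtype U.subtype fun s v => by
      obtain ⟨i, hi⟩ := v.2
      show Commute (s : H) (v : H)
      rw [← hi]
      exact (show Commute (s : H) u from (hSu s s.2).symm).zpow_right i
  have hdis : Disjoint S U :=
    disjoint_of_coprime_natCard (by rw [hS, Nat.card_zpowers, hu]; norm_num)
  have hfinj : Function.Injective f := by
    rw [injective_iff_map_eq_one]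
    rintro ⟨⟨s, hs⟩, ⟨v, hv⟩⟩ (hsv : s * v = 1)
    have h1 : s = 1 := disjoint_def.mp hdis hs (by rw [eq_inv_of_mul_eq_one_left hsv]; exact inv_mem hv)
    subst h1
    rw [one_mul] at hsv
    subst hsv
    rfl
  have hfc : Nat.card (S × U) = Nat.card H := by
    rw [Nat.card_prod, hS, Nat.card_zpowers, hu, ← hcardA, e3, ha]
  have hbij : Function.Bijective f := (Nat.bijective_iff_injective_and_card _).mpr ⟨hfinj, hfc⟩
  exact ⟨(MulEquiv.ofBijective f hbij).symm.trans (eS.prodCongr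
    (mulEquivOfPrimeCardEq (p := 5) (by rw [Nat.card_zpowers, hu]) (by simp)))⟩

end Cfsg.Agent.SharplyLinear
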