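import Mathlib.GroupTheory.SpecificGroups.Quaternion
import Mathlib.GroupTheory.Perm.Sign
import Mathlib.Data.Fin.VecNotation

/-!
# Finite facts about the quaternion group of order 8 and about permutations of three points
-/

set_option autoImplicit false
set_option maxRecDepth 8000

namespace Cfsg.Agent.SharplyLinear.Quat

open QuaternionGroup

local notation "Q" => QuaternionGroup 2

/-- The central involution. -/
def z : Q := a 2

/-- The class of an element modulo the centre, for the three nontrivial classes. -/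
def cls : Q → Fin 3
  | a _ => 0
  | xa i => if i.val % 2 = 0 then 1 else 2

/-- Representatives of the three classes. -/
def rep : Fin 3 → Q := ![a 1, xa 0, xa 1]

theorem eq_z : ∀ q : Q, q * q = 1 → q ≠ 1 → q = z := by decide
theorem z_facts : z * z = 1 ∧ z ≠ 1 ∧ ∀ q : Q, q * z = z * q := by decide
theorem center : ∀ q : Q, q * a 1 = a 1 * q → q * xa 0 = xa 0 * q → q = 1 ∨ q = z := by decide
theorem cls_mul_z : ∀ q : Q, cls (q * z) = cls q := by decide
theorem rep_cls : ∀ q : Q, q ≠ 1 → q ≠ z → q = rep (cls q) ∨ q = rep (cls q) * z := by decide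
theorem cls_rep : ∀ i : Fin 3, cls (rep i) = i := by decide
theorem rep_ne : ∀ i : Fin 3, rep i ≠ 1 ∧ rep i ≠ z ∧ rep i * rep i = z := by decide
theorem exists_conj : ∀ x y : Q, x = rep 0 ∨ x = rep 0 * z → y = rep 1 ∨ y = rep 1 * z →
    ∃ q : Q, q * a 1 = x * q ∧ q * xa 0 = y * q := by decide
theorem gens : ∀ q : Q, ∃ i : Fin 4, q = a 1 ^ (i : ℕ) ∨ q = a 1 ^ (i : ℕ) * xa 0 := by decide
theorem triangle : ∀ x y w : Q, x * x = z → y * y = z → w * w = z → cls x ≠ cls y → cls x ≠ cls w →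
    cls y ≠ cls w → w = x * y ∨ w = y * x := by decide +kernel
theorem pair : ∀ x y : Q, x * x = z → y * y = z → cls x ≠ cls y →
    x * x * (x * x) = 1 ∧ y * x = x * x * x * y ∧
      ∀ q : Q, ∃ i : Fin 4, q = x ^ (i : ℕ) ∨ q = x ^ (i : ℕ) * y := by decide +kernel

theorem perm_sign : ∀ σ : Equiv.Perm (Fin 3), σ * σ = 1 → σ ≠ 1 → Equiv.Perm.sign σ = -1 := by decide
theorem perm_three : ∀ σ : Equiv.Perm (Fin 3), σ * σ * σ = 1 → σ ≠ 1 →
    ∀ i, σ i ≠ i ∧ σ (σ i) ≠ i ∧ σ (σ i) ≠ σ i := by decide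
theorem perm_eq_one : ∀ σ : Equiv.Perm (Fin 3), σ 0 = 0 → σ 1 = 1 → σ = 1 := by decide

end Cfsg.Agent.SharplyLinear.Quat
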