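import Mathlib

/-!
Linear groups over a prime field regular on nonzero vectors: normal subgroups are abelian or irreducible.
-/

set_option autoImplicit false
set_option linter.style.haveILetI false

namespace Cfsg.Agent.SharplyLinear

variable {p : ℕ} [Fact p.Prime] {V : Type*} [AddCommGroup V] [Module (ZMod p) V]
variable {H : Subgroup (V ≃ₗ[ZMod p] V)}

/-- `W` is invariant under the subgroup `N` of `H`. -/
def Inv (N : Subgroup H) (W : Submodule (ZMod p) V) : Prop :=
  ∀ a ∈ N, ∀ v ∈ W, ((a : H) : V ≃ₗ[ZMod p] V) v ∈ W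

/-- `W` is an irreducible `N`-submodule. -/
def Irr (N : Subgroup H) (W : Submodule (ZMod p) V) : Prop :=
  W ≠ ⊥ ∧ Inv N W ∧ ∀ W' : Submodule (ZMod p) V, W' ≤ W → Inv N W' → W' = ⊥ ∨ W' = W

theorem exists_irr_le [Finite V] (N : Subgroup H) {W₀ : Submodule (ZMod p) V} (h0 : W₀ ≠ ⊥) (hinv : Inv N W₀) :
    ∃ W ≤ W₀, Irr N W := by
  obtain ⟨W, ⟨hle, hne, hWinv⟩, hmin⟩ :=
    (wellFounded_lt (α := Submodule (ZMod p) V)).has_min
      {W | W ≤ W₀ ∧ W ≠ ⊥ ∧ Inv N W} ⟨W₀, le_rfl, h0, hinv⟩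
  refine ⟨W, hle, hne, hWinv, fun W' hW' hinv' => ?_⟩
  by_contra hcon
  rw [not_or] at hcon
  exact hmin W' ⟨hW'.trans hle, hcon.1, hinv'⟩ (lt_of_le_of_ne hW' hcon.2)

/-- Translates of irreducibles of a normal subgroup are irreducible. -/
theorem irr_map {N : Subgroup H} [N.Normal] {W : Submodule (ZMod p) V} (hW : Irr N W) (h : H) :
    Irr N (W.map ((h : V ≃ₗ[ZMod p] V) : V →ₗ[ZMod p] V)) := by
  have key : ∀ (g : H) (W : Submodule (ZMod p) V), Inv N W →
      Inv N (W.map ((g : V ≃ₗ[ZMod p] V) : V →ₗ[ZMod p] V)) := by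
    rintro g W hW a ha _ ⟨v, hv, rfl⟩
    refine ⟨_, hW (g⁻¹ * a * g) (by simpa using ‹N.Normal›.conj_mem a ha g⁻¹) v hv, ?_⟩
    show ((g : V ≃ₗ[ZMod p] V) * ((g : V ≃ₗ[ZMod p] V)⁻¹ * (a : V ≃ₗ[ZMod p] V) * (g : V ≃ₗ[ZMod p] V))) v =
      ((a : V ≃ₗ[ZMod p] V) * (g : V ≃ₗ[ZMod p] V)) v
    congr 1
    group
  refine ⟨fun h0 => hW.1 ((Submodule.map_eq_bot_iff (e := (h : V ≃ₗ[ZMod p] V))).mp h0), key h W hW.2.1, fun W' hle hinv => ?_⟩
  set e := (h : V ≃ₗ[ZMod p] V)
  have hback : W'.map ((h⁻¹ : H) : V ≃ₗ[ZMod p] V).toLinearMap ≤ W := by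
    rintro _ ⟨v, hv, rfl⟩
    obtain ⟨w, hw, rfl⟩ := hle hv
    show e.symm (e w) ∈ W
    rwa [LinearEquiv.symm_apply_apply]
  have hfwd : W' = (W'.map ((h⁻¹ : H) : V ≃ₗ[ZMod p] V).toLinearMap).map e.toLinearMap := by
    ext v
    constructor
    · exact fun hv => ⟨e.symm v, ⟨v, hv, rfl⟩, LinearEquiv.apply_symm_apply e v⟩
    · rintro ⟨_, ⟨v, hv, rfl⟩, rfl⟩
      show e (e.symm v) ∈ W'
      rwa [LinearEquiv.apply_symm_apply]
  rcases hW.2.2 _ hback (key h⁻¹ W' hinv) with h0 | h0
  · exact Or.inl (by rw [hfwd, h0, Submodule.map_bot])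
  · exact Or.inr (by rw [hfwd, h0])

/-- The restriction of a subgroup to an invariant submodule. -/
def rest (N : Subgroup H) {W : Submodule (ZMod p) V} (hW : Inv N W) :
    N →* Module.End (ZMod p) W where
  toFun a := (((a : H) : V ≃ₗ[ZMod p] V) : V →ₗ[ZMod p] V).restrict (fun v hv => hW a a.2 v hv)
  map_one' := LinearMap.ext fun _ => Subtype.ext rfl
  map_mul' _ _ := LinearMap.ext fun _ => Subtype.ext rfl

theorem coe_rest (N : Subgroup H) {W : Submodule (ZMod p) V} (hW : Inv N W) (a : N) (w : W) :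
    ((rest N hW a w : W) : V) = ((a : H) : V ≃ₗ[ZMod p] V) w := rfl

/-- The endomorphisms of an invariant submodule commuting with the group. -/
def commutant (N : Subgroup H) {W : Submodule (ZMod p) V} (hW : Inv N W) :
    Subring (Module.End (ZMod p) W) :=
  Subring.centralizer (Set.range (rest N hW))

theorem mem_commutant {N : Subgroup H} {W : Submodule (ZMod p) V} {hW : Inv N W}
    {f : Module.End (ZMod p) W} :
    f ∈ commutant N hW ↔ ∀ (a : N) (w : W), rest N hW a (f w) = f (rest N hW a w) := by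
  rw [commutant, Subring.mem_centralizer_iff]
  constructor
  · exact fun h a w => LinearMap.congr_fun (h _ ⟨a, rfl⟩) w
  · rintro h _ ⟨a, rfl⟩
    exact LinearMap.ext (h a)

/-- Schur's lemma. -/
theorem injective_of_mem_commutant {N : Subgroup H} {W : Submodule (ZMod p) V} (hW : Irr N W)
    {f : Module.End (ZMod p) W} (hf : f ∈ commutant N hW.2.1) (h0 : f ≠ 0) : Function.Injective f := by
  rw [← LinearMap.ker_eq_bot]
  have hinv : Inv N ((LinearMap.ker f).map W.subtype) := by
    rintro a ha _ ⟨w, hw, rfl⟩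
    refine ⟨rest N hW.2.1 ⟨a, ha⟩ w, ?_, rfl⟩
    rw [SetLike.mem_coe, LinearMap.mem_ker] at hw ⊢
    rw [← mem_commutant.mp hf, hw, map_zero]
  rcases hW.2.2 _ (Submodule.map_subtype_le W _) hinv with h | h
  · exact Submodule.map_injective_of_injective W.injective_subtype (h.trans (Submodule.map_bot _).symm)
  · refine absurd (LinearMap.ext fun w => ?_) h0
    obtain ⟨u, hu, hue⟩ := h.ge w.2
    obtain rfl : u = w := Subtype.ext hue
    exact hu

/-- The commutant of an irreducible submodule is commutative. -/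
theorem commutant_comm [Finite V] {N : Subgroup H} {W : Submodule (ZMod p) V} (hW : Irr N W)
    (f g : Module.End (ZMod p) W) (hf : f ∈ commutant N hW.2.1) (hg : g ∈ commutant N hW.2.1) :
    f * g = g * f := by
  haveI : Finite (Module.End (ZMod p) W) :=
    Finite.of_injective (fun f : Module.End (ZMod p) W => (⇑f : W → W)) DFunLike.coe_injective
  obtain ⟨w, hw, hw0⟩ := Submodule.exists_mem_ne_zero_of_ne_bot hW.1
  haveI : Nontrivial (commutant N hW.2.1) := ⟨⟨1, 0, fun h => hw0 (by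
    simpa using congrArg Subtype.val (LinearMap.congr_fun (congrArg Subtype.val h) ⟨w, hw⟩))⟩⟩
  haveI : NoZeroDivisors (commutant N hW.2.1) := ⟨fun {a b} hab => by
    by_contra hcon
    rw [not_or] at hcon
    refine hcon.2 (Subtype.ext (LinearMap.ext fun x => injective_of_mem_commutant hW a.2
      (fun h => hcon.1 (Subtype.ext h)) ?_))
    have := LinearMap.congr_fun (congrArg Subtype.val hab) x
    simpa using this⟩
  haveI : IsDomain (commutant N hW.2.1) := NoZeroDivisors.to_isDomain _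
  exact congrArg Subtype.val ((Finite.isDomain_to_isField (commutant N hW.2.1)).mul_comm ⟨f, hf⟩ ⟨g, hg⟩)

variable (hreg : ∀ v w : V, v ≠ 0 → w ≠ 0 → ∃! h : H, (h : V ≃ₗ[ZMod p] V) v = w)
include hreg

theorem eq_one_of_fix {h : H} {v : V} (hv : v ≠ 0) (hfix : (h : V ≃ₗ[ZMod p] V) v = v) : h = 1 := by
  obtain ⟨g, -, hu⟩ := hreg v v hv hv
  exact (hu h hfix).trans (hu 1 rfl).symm

theorem rest_injective {N : Subgroup H} {W : Submodule (ZMod p) V} (hW : Inv N W) (hne : W ≠ ⊥) :
    Function.Injective (rest N hW) := by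
  obtain ⟨v, hv, hv0⟩ := Submodule.exists_mem_ne_zero_of_ne_bot hne
  refine (injective_iff_map_eq_one _).mpr fun a ha => Subtype.ext ?_
  exact eq_one_of_fix hreg hv0 (congrArg Subtype.val (LinearMap.congr_fun ha ⟨v, hv⟩))

/-- The order of `H` is the number of nonzero vectors. -/
theorem card_eq [Finite V] {v : V} (hv : v ≠ 0) : Nat.card H + 1 = Nat.card V := by
  have hne : ∀ h : H, (h : V ≃ₗ[ZMod p] V) v ≠ 0 := fun h e =>
    hv ((h : V ≃ₗ[ZMod p] V).injective (e.trans (map_zero _).symm))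
  rw [Nat.card_congr (Equiv.ofBijective (fun h : H => (⟨(h : V ≃ₗ[ZMod p] V) v, hne h⟩ : {x : V // x ≠ 0}))
    ⟨fun a b hab => ?_, fun x => ?_⟩)]
  · classical
    haveI := Fintype.ofFinite V
    rw [Nat.card_eq_fintype_card, Nat.card_eq_fintype_card, Fintype.card_subtype_compl,
      Fintype.card_subtype_eq]
    have := Fintype.card_pos (α := V)
    omega
  · obtain ⟨g, -, hu⟩ := hreg v _ hv (hne a)
    exact (hu a rfl).trans (hu b (congrArg Subtype.val hab).symm).symm
  · obtain ⟨g, hg, -⟩ := hreg v x.1 hv x.2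
    exact ⟨g, Subtype.ext hg⟩

/-- Two distinct irreducible submodules of a normal subgroup force it to be abelian. -/
theorem comm_of_reducible [Finite V] {N : Subgroup H} [N.Normal] {U : Submodule (ZMod p) V}
    (hU : Irr N U) (htop : U ≠ ⊤) : IsMulCommutative N := by
  obtain ⟨u₀, hu₀, hu0⟩ := Submodule.exists_mem_ne_zero_of_ne_bot hU.1
  obtain ⟨x, -, hx⟩ := SetLike.exists_of_lt (lt_top_iff_ne_top.mpr htop)
  have hx0 : x ≠ 0 := fun h => hx (h ▸ U.zero_mem)
  obtain ⟨h, hh, -⟩ := hreg u₀ x hu0 hx0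
  set U₂ := U.map ((h : V ≃ₗ[ZMod p] V) : V →ₗ[ZMod p] V)
  have hU₂ : Irr N U₂ := irr_map hU h
  have hxU₂ : x ∈ U₂ := ⟨u₀, hu₀, hh⟩
  have hdisj : ∀ U' : Submodule (ZMod p) V, Irr N U' → ∀ U'' : Submodule (ZMod p) V, Irr N U'' → U' ≠ U'' →
      U' ⊓ U'' = ⊥ := by
    intro U' h' U'' h'' hne
    rcases h'.2.2 (U' ⊓ U'') inf_le_left (fun a ha v hv => ⟨h'.2.1 a ha v hv.1, h''.2.1 a ha v hv.2⟩) with e | e
    · exact e
    · rcases h''.2.2 U' (inf_eq_left.mp e) h'.2.1 with e' | e'
      · exact absurd e' h'.1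
      · exact absurd e' hne
  have h12 : U ⊓ U₂ = ⊥ := hdisj U hU U₂ hU₂ fun e => hx (e ▸ hxU₂)
  -- the commutant of `U` is transitive on nonzero vectors
  have htrans : ∀ u u' : U, u ≠ 0 → u' ≠ 0 → ∃ f ∈ commutant N hU.2.1, f u = u' := by
    -- graphs of isomorphisms `U → U₂`
    have hgraph : ∀ u : U, u ≠ 0 → ∃ g : U ≃ₗ[ZMod p] U₂,
        ((g u : U₂) : V) = x ∧ ∀ (a : N) (w : U), rest N hU₂.2.1 a (g w) = g (rest N hU.2.1 a w) := by
      intro u hu
      have hsum : (u : V) + x ≠ 0 := fun e => hx (by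
        rw [eq_neg_of_add_eq_zero_right e]; exact U.neg_mem u.2)
      obtain ⟨k, hk, -⟩ := hreg u₀ ((u : V) + x) hu0 hsum
      set U₃ := U.map ((k : V ≃ₗ[ZMod p] V) : V →ₗ[ZMod p] V)
      have hU₃ : Irr N U₃ := irr_map hU k
      have hmem : (u : V) + x ∈ U₃ := ⟨u₀, hu₀, hk⟩
      have h3U : U₃ ⊓ U = ⊥ := hdisj U₃ hU₃ U hU fun e => hx (by
        have := U.sub_mem (e ▸ hmem) u.2
        simpa using this)
      have h32 : U₃ ⊓ U₂ = ⊥ := hdisj U₃ hU₃ U₂ hU₂ fun e => hu (by
        have h1 : (u : V) ∈ U ⊓ U₂ := ⟨u.2, by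
          have h2 := U₂.sub_mem (e ▸ hmem : (u : V) + x ∈ U₂) hxU₂
          rwa [add_sub_cancel_right] at h2⟩
        rw [h12, Submodule.mem_bot] at h1
        exact Subtype.ext h1)
      have hle : U₃ ≤ U ⊔ U₂ := by
        rcases hU₃.2.2 (U₃ ⊓ (U ⊔ U₂)) inf_le_left (fun a ha v hv => ⟨hU₃.2.1 a ha v hv.1, by
          obtain ⟨y, hy, z, hz, rfl⟩ := Submodule.mem_sup.mp hv.2
          rw [map_add]
          exact Submodule.add_mem_sup (hU.2.1 a ha y hy) (hU₂.2.1 a ha z hz)⟩) with e | e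
        · have h1 : (u : V) + x ∈ U₃ ⊓ (U ⊔ U₂) := ⟨hmem, Submodule.add_mem_sup u.2 hxU₂⟩
          rw [e, Submodule.mem_bot] at h1
          exact absurd h1 hsum
        · exact inf_eq_left.mp e
      have hdecomp : ∀ w : U, ∃ z : U₂, (w : V) + z ∈ U₃ := by
        have hS : Submodule.comap U.subtype (U₃ ⊔ U₂) = ⊤ := by
          have hinvS : Inv N (U ⊓ (U₃ ⊔ U₂)) := fun a ha v hv => ⟨hU.2.1 a ha v hv.1, by
            obtain ⟨y, hy, z, hz, rfl⟩ := Submodule.mem_sup.mp hv.2
            rw [map_add]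
            exact Submodule.add_mem_sup (hU₃.2.1 a ha y hy) (hU₂.2.1 a ha z hz)⟩
          rcases hU.2.2 _ inf_le_left hinvS with e | e
          · have h1 : (u : V) ∈ U ⊓ (U₃ ⊔ U₂) := ⟨u.2, Submodule.mem_sup.mpr
              ⟨_, hmem, -x, U₂.neg_mem hxU₂, by abel⟩⟩
            rw [e, Submodule.mem_bot] at h1
            exact absurd (Subtype.ext h1) hu
          · exact eq_top_iff.mpr fun w _ => (e.ge w.2).2
        intro w
        obtain ⟨y, hy, z, hz, hyz⟩ := Submodule.mem_sup.mp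
          (hS.ge (Submodule.mem_top (x := w)) : (w : V) ∈ U₃ ⊔ U₂)
        exact ⟨⟨-z, U₂.neg_mem hz⟩, by
          show (w : V) + -z ∈ U₃
          have h3 : y + z = (w : V) := hyz
          rw [← h3]
          simpa using hy⟩
      choose z hz using hdecomp
      have huniq : ∀ (w : U) (z' : U₂), (w : V) + z' ∈ U₃ → z' = z w := by
        intro w z' hz'
        have h1 : ((z' : V) - z w) ∈ U₃ ⊓ U₂ :=
          ⟨by simpa using U₃.sub_mem hz' (hz w), U₂.sub_mem z'.2 (z w).2⟩
        rw [h32, Submodule.mem_bot, sub_eq_zero] at h1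
        exact Subtype.ext h1
      let g : U →ₗ[ZMod p] U₂ :=
        { toFun := z
          map_add' := fun a b => (huniq _ _ (by
            have := U₃.add_mem (hz a) (hz b)
            simpa [add_add_add_comm] using this)).symm
          map_smul' := fun c a => (huniq _ _ (by
            have := U₃.smul_mem c (hz a)
            simpa [smul_add] using this)).symm }
      have hginj : Function.Injective g := by
        rw [← LinearMap.ker_eq_bot, LinearMap.ker_eq_bot']
        intro w hw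
        have h1 : (w : V) ∈ U₃ ⊓ U := ⟨by simpa [show z w = 0 from hw] using hz w, w.2⟩
        rw [h3U, Submodule.mem_bot] at h1
        exact Subtype.ext h1
      have hgeq : ∀ (a : N) (w : U), rest N hU₂.2.1 a (g w) = g (rest N hU.2.1 a w) := fun a w =>
        huniq _ _ (by
          have := hU₃.2.1 a a.2 _ (hz w)
          rwa [map_add] at this)
      have hgbij : Function.Bijective g := by
        refine ⟨hginj, LinearMap.range_eq_top.mp ?_⟩
        apply Submodule.map_injective_of_injective U₂.injective_subtype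
        rw [Submodule.map_subtype_top]
        rcases hU₂.2.2 ((LinearMap.range g).map U₂.subtype) (Submodule.map_subtype_le _ _) (by
          rintro a ha _ ⟨_, ⟨w, rfl⟩, rfl⟩
          exact ⟨_, ⟨rest N hU.2.1 ⟨a, ha⟩ w, (hgeq ⟨a, ha⟩ w).symm⟩, rfl⟩) with e | e
        · exfalso
          have h1 : ((g u : U₂) : V) ∈ (LinearMap.range g).map U₂.subtype := ⟨g u, ⟨u, rfl⟩, rfl⟩
          rw [e, Submodule.mem_bot] at h1
          exact hu (hginj ((Subtype.ext h1 : g u = 0).trans (map_zero g).symm))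
        · exact e
      refine ⟨LinearEquiv.ofBijective g hgbij, ?_, hgeq⟩
      show ((z u : U₂) : V) = x
      rw [← huniq u ⟨x, hxU₂⟩ hmem]
    intro u u' hu hu'
    obtain ⟨g, hg, hga⟩ := hgraph u hu
    obtain ⟨g', hg', hga'⟩ := hgraph u' hu'
    refine ⟨g'.symm.toLinearMap ∘ₗ g.toLinearMap, mem_commutant.mpr fun a w => ?_, ?_⟩
    · apply g'.injective
      show g' (rest N hU.2.1 a (g'.symm (g w))) = g' (g'.symm (g (rest N hU.2.1 a w)))
      rw [← hga', LinearEquiv.apply_symm_apply, LinearEquiv.apply_symm_apply, hga]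
    · show g'.symm (g u) = u'
      rw [LinearEquiv.symm_apply_eq]
      exact Subtype.ext (hg.trans hg'.symm)
  refine ⟨⟨fun a b => rest_injective hreg hU.2.1 hU.1 ?_⟩⟩
  rw [map_mul, map_mul]
  refine LinearMap.ext fun w => ?_
  by_cases hw : w = 0
  · simp [hw]
  have hne : ∀ c : N, rest N hU.2.1 c w ≠ 0 := fun c e => hw (by
    have h1 : rest N hU.2.1 c⁻¹ (rest N hU.2.1 c w) = w := by
      rw [← Module.End.mul_apply, ← map_mul, inv_mul_cancel, map_one, Module.End.one_apply]
    rw [← h1, e, map_zero])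
  obtain ⟨fa, hfa, hfaw⟩ := htrans w _ hw (hne a)
  obtain ⟨fb, hfb, hfbw⟩ := htrans w _ hw (hne b)
  show rest N hU.2.1 a (rest N hU.2.1 b w) = rest N hU.2.1 b (rest N hU.2.1 a w)
  rw [← hfbw, mem_commutant.mp hfb, ← hfaw, mem_commutant.mp hfa, ← hfbw]
  exact LinearMap.congr_fun (commutant_comm hU fb fa hfb hfa) w

/-- An abelian subgroup with an irreducible submodule is cyclic, and its order divides `|W| - 1`. -/
theorem cyclic_of_irr [Finite V] {A : Subgroup H} [IsMulCommutative A] {W : Submodule (ZMod p) V}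
    (hW : Irr A W) : IsCyclic A ∧ Nat.card A ∣ p ^ Module.finrank (ZMod p) W - 1 := by
  classical
  haveI : Finite H := by
    obtain ⟨v, -, hv⟩ := Submodule.exists_mem_ne_zero_of_ne_bot hW.1
    exact Nat.finite_of_card_ne_zero (fun h => by
      have := card_eq hreg hv
      have : 1 < Nat.card V := Finite.one_lt_card_iff_nontrivial.mpr ⟨⟨v, 0, hv⟩⟩
      omega)
  haveI : Finite (Module.End (ZMod p) W) :=
    Finite.of_injective (fun f : Module.End (ZMod p) W => (⇑f : W → W)) DFunLike.coe_injective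
  obtain ⟨v, hv, hv0⟩ := Submodule.exists_mem_ne_zero_of_ne_bot hW.1
  have hmem : ∀ a : A, rest A hW.2.1 a ∈ commutant A hW.2.1 := fun a => mem_commutant.mpr fun b w => by
    rw [← Module.End.mul_apply, ← map_mul, mul_comm' b a, map_mul, Module.End.mul_apply]
  letI : CommRing (commutant A hW.2.1) := { (inferInstance : Ring (commutant A hW.2.1)) with
    mul_comm := fun f g => Subtype.ext (commutant_comm hW f g f.2 g.2) }
  haveI : Nontrivial (commutant A hW.2.1) := ⟨⟨1, 0, fun h => hv0 (by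
    simpa using congrArg Subtype.val (LinearMap.congr_fun (congrArg Subtype.val h) ⟨v, hv⟩))⟩⟩
  haveI : NoZeroDivisors (commutant A hW.2.1) := ⟨fun {a b} hab => by
    by_contra hcon
    rw [not_or] at hcon
    refine hcon.2 (Subtype.ext (LinearMap.ext fun x => injective_of_mem_commutant hW a.2
      (fun h => hcon.1 (Subtype.ext h)) ?_))
    have := LinearMap.congr_fun (congrArg Subtype.val hab) x
    simpa using this⟩
  haveI : IsDomain (commutant A hW.2.1) := NoZeroDivisors.to_isDomain _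
  let φ : A →* commutant A hW.2.1 :=
    { toFun := fun a => ⟨rest A hW.2.1 a, hmem a⟩
      map_one' := Subtype.ext (map_one _)
      map_mul' := fun a b => Subtype.ext (map_mul _ a b) }
  refine ⟨isCyclic_of_injective_ringHom φ fun a b h =>
    rest_injective hreg hW.2.1 hW.1 (congrArg Subtype.val h), ?_⟩
  letI : MulAction A {w : W // w ≠ 0} :=
    { smul := fun a w => ⟨rest A hW.2.1 a w.1, fun e => w.2 (by
        have h1 : rest A hW.2.1 a⁻¹ (rest A hW.2.1 a w.1) = w.1 := by
          rw [← Module.End.mul_apply, ← map_mul, inv_mul_cancel, map_one, Module.End.one_apply]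
        rw [← h1, e, map_zero])⟩
      one_smul := fun w => Subtype.ext (by show rest A hW.2.1 1 w.1 = w.1; rw [map_one]; rfl)
      mul_smul := fun a b w => Subtype.ext (by
        show rest A hW.2.1 (a * b) w.1 = rest A hW.2.1 a (rest A hW.2.1 b w.1)
        rw [map_mul]; rfl) }
  haveI : IsCancelSMul A {w : W // w ≠ 0} := ⟨fun a b w h => by
    have h1 : b⁻¹ * a = 1 := Subtype.ext (eq_one_of_fix hreg (v := ((w.1 : W) : V))
      (fun e => w.2 (Subtype.ext e)) (congrArg (fun z : {w : W // w ≠ 0} => ((z.1 : W) : V))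
        (show (b⁻¹ * a) • w = w by rw [mul_smul, h, inv_smul_smul])))
    exact (inv_mul_eq_one.mp h1).symm⟩
  have hcard : Nat.card {w : W // w ≠ 0} = p ^ Module.finrank (ZMod p) W - 1 := by
    haveI := Fintype.ofFinite W
    rw [Nat.card_eq_fintype_card, Fintype.card_subtype_compl, Fintype.card_subtype_eq,
      ← Nat.card_eq_fintype_card, Module.natCard_eq_pow_finrank (K := ZMod p), Nat.card_zmod]
  rw [← hcard]
  haveI := Fintype.ofFinite {w : W // w ≠ 0}
  rw [Nat.card_congr (MulAction.selfEquivOrbitsQuotientProd (G := A) (X := {w : W // w ≠ 0})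
    (fun w => (Subgroup.eq_bot_iff_forall _).mpr fun a ha => IsCancelSMul.eq_one_of_smul (x := w) ha)),
    Nat.card_prod]
  exact dvd_mul_left _ _

end Cfsg.Agent.SharplyLinear
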