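import Cfsg.Agent.Lib.SharplyLinear.Quat
import Cfsg.Agent.Lib.PGroup.UniqueOrderP
import Cfsg.Agent.S0684
import Cfsg.Agent.S0685
import Cfsg.Agent.S0687

/-!
# The quaternion radical of a soluble exceptional sharply linear group
-/

set_option autoImplicit false
set_option linter.style.haveILetI false

namespace Cfsg.Agent.SharplyLinear

open Subgroup
open scoped commutatorElement

variable {p : ℕ} [Fact p.Prime] {V : Type*} [AddCommGroup V] [Module (ZMod p) V] [Finite V]
variable {H : Subgroup (V ≃ₗ[ZMod p] V)}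

/-- An abelian subgroup of a regular linear group is cyclic. -/
theorem cyclic_of_comm [Nontrivial V]
    (hreg : ∀ v w : V, v ≠ 0 → w ≠ 0 → ∃! h : H, (h : V ≃ₗ[ZMod p] V) v = w)
    (B : Subgroup H) [IsMulCommutative B] : IsCyclic B := by
  obtain ⟨U, -, hU⟩ := exists_irr_le B (W₀ := (⊤ : Submodule (ZMod p) V)) top_ne_bot
    fun _ _ _ _ => Submodule.mem_top
  exact (cyclic_of_irr hreg hU).1

theorem finite_group : Finite (V ≃ₗ[ZMod p] V) :=
  Finite.of_injective (fun f : V ≃ₗ[ZMod p] V => (⇑f : V → V)) DFunLike.coe_injective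

/-- The structure of a soluble regular linear group without irreducible cyclic normal subgroups:
a maximal abelian normal subgroup `A` and a normal quaternion subgroup with centralizer `A`. -/
theorem exists_quaternion_radical [Nontrivial V]
    (hreg : ∀ v w : V, v ≠ 0 → w ≠ 0 → ∃! h : H, (h : V ≃ₗ[ZMod p] V) v = w)
    (hI : ∀ A : Subgroup H, A.Normal → IsCyclic A → ∃ W : Submodule (ZMod p) V,
      W ≠ ⊥ ∧ W ≠ ⊤ ∧ ∀ a ∈ A, ∀ v ∈ W, ((a : H) : V ≃ₗ[ZMod p] V) v ∈ W)
    (hsolv : Group.IsSolvable H) :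
    ∃ (A : Subgroup H) (ι : QuaternionGroup 2 →* H), A.Normal ∧ IsCyclic A ∧ Function.Injective ι ∧
      ι.range.Normal ∧ ι Quat.z ∈ A ∧ (∀ q, ι q ∈ A → q = 1 ∨ q = Quat.z) ∧
      (∀ h : H, (∀ q, h * ι q = ι q * h) ↔ h ∈ A) ∧
      ∃ W : Submodule (ZMod p) V, W ≠ ⊤ ∧ Irr A W ∧ Nat.card A ∣ p ^ Module.finrank (ZMod p) W - 1 := by
  classical
  haveI : Finite (V ≃ₗ[ZMod p] V) := finite_group
  haveI := hsolv
  obtain ⟨A, hA⟩ := (Set.toFinite {B : Subgroup H | B.Normal ∧ IsMulCommutative B}).exists_maximal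
    ⟨⊥, inferInstance, inferInstance⟩
  obtain ⟨hAn, hAc⟩ := hA.1
  haveI := hAn
  haveI := hAc
  have hAmax : ∀ B : Subgroup H, B.Normal → IsMulCommutative B → A ≤ B → B = A :=
    fun B h1 h2 h3 => le_antisymm (hA.2 ⟨h1, h2⟩ h3) h3
  obtain ⟨hcyc, W, hW0, hWt, hWinv, hWmin, hdvd⟩ := S0684.result H hreg hI A hAn hAc hAmax
  have hCna := (S0685.result H hreg hI A hAn hAc hAmax).2
  obtain ⟨N, hN⟩ := (Set.toFinite {M : Subgroup H |
    M.Normal ∧ M ≤ centralizer (A : Set H) ∧ ¬ IsMulCommutative M}).exists_minimal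
      ⟨_, inferInstance, le_rfl, hCna⟩
  obtain ⟨hNn, hNle, hNna⟩ := hN.1
  haveI := hNn
  have hNmin : ∀ M : Subgroup H, M.Normal → M ≤ N → ¬ IsMulCommutative M → M = N :=
    fun M h1 h2 h3 => le_antisymm h2 (hN.2 ⟨h1, h2.trans hNle, h3⟩ h2)
  obtain ⟨-, hCN⟩ := S0687.result H hreg hI A hAn hAc hAmax N hNn hNle hNna hNmin
  -- the derived subgroup of `N` lies in `A`
  have hNbot : N ≠ ⊥ := fun e => hNna (by rw [e]; infer_instance)
  have hlt : ⁅N, N⁆ < N := Group.IsSolvable.commutator_lt_of_ne_bot hNbot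
  haveI hDc : IsMulCommutative (⁅N, N⁆ : Subgroup H) := by
    by_contra hcon
    exact hlt.ne (hNmin _ inferInstance hlt.le hcon)
  have hD : ⁅N, N⁆ ≤ A := by
    have h1 : A ⊔ ⁅N, N⁆ ≤ centralizer (A : Set H) :=
      sup_le (le_centralizer A) (hlt.le.trans hNle)
    have h2 : A ⊔ ⁅N, N⁆ ≤ centralizer ((⁅N, N⁆ : Subgroup H) : Set H) :=
      sup_le (le_centralizer_iff.mp (hlt.le.trans hNle)) (le_centralizer _)
    have h3 : A ⊔ ⁅N, N⁆ ≤ centralizer ((A ⊔ ⁅N, N⁆ : Subgroup H) : Set H) :=
      sup_le (le_centralizer_iff.mp h1) (le_centralizer_iff.mp h2)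
    rw [← hAmax (A ⊔ ⁅N, N⁆) inferInstance
      ⟨⟨fun a b => Subtype.ext (mem_centralizer_iff.mp (h3 b.2) a a.2)⟩⟩ le_sup_left]
    exact le_sup_right
  -- so `N` is nilpotent and hence a group of prime power order
  have hker : commutator N ≤ center N := by
    rw [commutator_def, commutator_le]
    intro x _ y _
    refine mem_center_iff.mpr fun n => Subtype.ext ?_
    have h1 : ((⁅x, y⁆ : N) : H) ∈ A := hD (by
      rw [show ((⁅x, y⁆ : N) : H) = ⁅(x : H), (y : H)⁆ from rfl]
      exact commutator_mem_commutator x.2 y.2)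
    exact ((mem_centralizer_iff.mp (hNle n.2)) _ h1).symm
  haveI : Group.IsNilpotent N :=
    Subgroup.isNilpotent_of_ker_le_center (Abelianization.of : N →* Abelianization N)
      ((Abelianization.ker_of N).le.trans hker)
  obtain ⟨r, hr, P, hPna⟩ : ∃ (r : ℕ) (_ : Fact r.Prime) (P : Sylow r N), ¬ IsMulCommutative (P : Subgroup N) := by
    by_contra hcon
    push Not at hcon
    obtain ⟨e⟩ := ((Group.isNilpotent_of_finite_tfae (G := N)).out 0 4).mp ‹_›
    refine hNna ⟨⟨fun a b => ?_⟩⟩
    apply e.symm.injective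
    rw [map_mul, map_mul]
    funext q P
    haveI := hcon q.1 ⟨Nat.prime_of_mem_primeFactors q.2⟩ P
    exact mul_comm' _ _
  haveI : (P : Subgroup N).Characteristic := P.characteristic_of_normal inferInstance
  have hPN : (P : Subgroup N).map N.subtype = N := by
    refine hNmin _ inferInstance (map_subtype_le _) fun hc => hPna ⟨⟨fun a b => ?_⟩⟩
    have := hc.is_comm.comm ⟨_, mem_map_of_mem N.subtype a.2⟩ ⟨_, mem_map_of_mem N.subtype b.2⟩
    exact Subtype.ext (Subtype.ext (congrArg Subtype.val this :))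
  have hPt : (P : Subgroup N) = ⊤ := map_injective N.subtype_injective
    (hPN.trans (by rw [← MonoidHom.range_eq_map, range_subtype]))
  have hNr : IsPGroup r N := by
    intro x
    obtain ⟨k, hk⟩ := P.isPGroup' ⟨x, hPt ▸ mem_top x⟩
    exact ⟨k, congrArg Subtype.val hk⟩
  -- a unique subgroup of order `r`
  haveI : Nontrivial N := (nontrivial_iff_ne_bot N).mpr hNbot
  obtain ⟨y, hy⟩ : ∃ y : center N, orderOf y = r := by
    haveI := hNr.center_nontrivial
    obtain ⟨k, hk⟩ := (IsPGroup.iff_card).mp (hNr.to_subgroup (center N))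
    refine exists_prime_orderOf_dvd_card' r (hk ▸ dvd_pow_self r fun e => ?_)
    have := Finite.one_lt_card (α := center N)
    rw [hk, e, pow_zero] at this
    omega
  have huniq : ∀ K : Subgroup N, Nat.card K = r → K = zpowers (y : N) := by
    intro K hK
    obtain ⟨x, hx⟩ := exists_prime_orderOf_dvd_card' r (dvd_of_eq hK.symm)
    have hxK : zpowers (x : N) = K := eq_of_le_of_card_ge (zpowers_le.mpr x.2)
      (by rw [hK, Nat.card_zpowers, Subgroup.orderOf_coe, hx])
    rw [← hxK]
    let B : Subgroup H := closure {((x : N) : H), ((y : N) : H)}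
    haveI : IsMulCommutative B := by
      refine Subgroup.isMulCommutative_closure ?_
      have hc : ((x : N) : H) * ((y : N) : H) = ((y : N) : H) * ((x : N) : H) :=
        congrArg Subtype.val (mem_center_iff.mp y.2 x)
      rintro u (rfl | rfl) v (rfl | rfl)
      exacts [rfl, hc, hc.symm, rfl]
    haveI := cyclic_of_comm hreg B
    haveI : Fintype B := Fintype.ofFinite B
    have hxB : ((x : N) : H) ∈ B := subset_closure (by simp)
    have hyB : ((y : N) : H) ∈ B := subset_closure (by simp)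
    have ho : ∀ (u : N) (hu : (u : H) ∈ B), orderOf u = r → orderOf (⟨(u : H), hu⟩ : B) = r :=
      fun u hu he => by rw [Subgroup.orderOf_mk, Subgroup.orderOf_coe, he]
    let S : Finset B := Finset.univ.filter fun b => b ^ r = 1
    have hS : S.card ≤ r := IsCyclic.card_pow_eq_one_le hr.out.pos
    have key : ∀ u : B, orderOf u = r → ((zpowers u : Subgroup B) : Set B) = (S : Set B) := by
      intro u hu
      refine Set.eq_of_subset_of_ncard_le (fun w hw => ?_) ?_ (Set.toFinite _)
      · obtain ⟨i, rfl⟩ := hw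
        simp only [S, Finset.coe_filter, Finset.mem_univ, true_and, Set.mem_setOf_eq]
        rw [← zpow_natCast, ← zpow_mul, mul_comm, zpow_mul, zpow_natCast, ← hu, pow_orderOf_eq_one, one_zpow]
      · rw [Set.ncard_coe_finset, ← Nat.card_coe_set_eq]
        exact hS.trans (by rw [show Nat.card ((zpowers u : Subgroup B) : Set B) = r from (Nat.card_zpowers u).trans hu])
    have hxy : (⟨_, hxB⟩ : B) ∈ zpowers (⟨_, hyB⟩ : B) := by
      have h1 := key ⟨_, hxB⟩ (ho x hxB (by rw [Subgroup.orderOf_coe, hx]))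
      have h2 := key ⟨_, hyB⟩ (ho y hyB (by rw [Subgroup.orderOf_coe, hy]))
      rw [← SetLike.mem_coe, h2, ← h1]
      exact mem_zpowers _
    obtain ⟨i, hi⟩ := hxy
    have hxy' : (x : N) ∈ zpowers (y : N) := by
      refine ⟨i, Subtype.ext ?_⟩
      have := congrArg Subtype.val hi
      simpa using this
    exact eq_of_le_of_card_ge (zpowers_le.mpr hxy')
      (by simp only [Nat.card_zpowers, Subgroup.orderOf_coe, hx, hy, le_refl])
  rcases PGroup.cyclic_or_quaternion_of_unique hNr fun K L h1 h2 => (huniq K h1).trans (huniq L h2).symm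
    with hc | ⟨-, n, hn, -, ⟨e⟩⟩
  · exact absurd (IsCyclic.isMulCommutative (α := N)) hNna
  -- the class is two, so `n = 1`
  have hn1 : n = 1 := by
    let x : QuaternionGroup (2 ^ n) := .xa 0
    let g : QuaternionGroup (2 ^ n) := .a 1
    obtain ⟨c, hc⟩ : ∃ c, e (⁅e.symm x, e.symm g⁆) = c := ⟨_, rfl⟩
    have h1 : c * (g * x) = x * g := by
      rw [← hc, map_commutatorElement, e.apply_symm_apply, e.apply_symm_apply, commutatorElement_def]
      group
    have h2 : c * x = x * c := by
      have := mem_center_iff.mp (hker (commutator_mem_commutator (mem_top (e.symm x)) (mem_top (e.symm g))))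
        (e.symm x)
      have := congrArg e this
      rw [map_mul, map_mul, e.apply_symm_apply, hc] at this
      exact this.symm
    have h3 : c = .a (-2) := by
      apply mul_right_cancel (b := g * x)
      rw [h1]
      simp [g, x]
      ring
    rw [h3] at h2
    simp only [x, QuaternionGroup.a_mul_xa, QuaternionGroup.xa_mul_a, QuaternionGroup.xa.injEq] at h2
    have h4 : ((4 : ℕ) : ZMod (2 * 2 ^ n)) = 0 := by
      push_cast
      linear_combination h2
    rw [ZMod.natCast_eq_zero_iff, ← pow_succ'] at h4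
    have h5 : 2 ^ (n + 1) ≤ 2 ^ 2 := Nat.le_of_dvd (by norm_num) h4
    have := (Nat.pow_le_pow_iff_right (by norm_num : 1 < 2)).mp h5
    omega
  subst hn1
  let ι : QuaternionGroup 2 →* H := N.subtype.comp (e.symm : QuaternionGroup 2 →* N)
  have hrange : ι.range = N := by
    rw [MonoidHom.range_comp, MonoidHom.range_eq_top.mpr e.symm.surjective, ← MonoidHom.range_eq_map,
      range_subtype]
  have hcent : ∀ h : H, (∀ q, h * ι q = ι q * h) ↔ h ∈ A := by
    intro h
    rw [← hCN, ← hrange, mem_centralizer_iff]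
    exact ⟨fun hq _ ⟨q, hq'⟩ => hq' ▸ (hq q).symm, fun hm q => (hm _ ⟨q, rfl⟩).symm⟩
  refine ⟨A, ι, hAn, hcyc, N.subtype_injective.comp e.symm.injective, hrange ▸ hNn, ?_, fun q hq => ?_, hcent,
    W, hWt, ⟨hW0, hWinv, hWmin⟩, hdvd⟩
  · rw [show Quat.z = ⁅(QuaternionGroup.xa 0 : QuaternionGroup 2), QuaternionGroup.a 1⁆ by decide,
      map_commutatorElement]
    exact hD (commutator_mem_commutator (hrange ▸ ⟨_, rfl⟩) (hrange ▸ ⟨_, rfl⟩))
  · have key : ∀ w, q * w = w * q := fun w => by
      have hι : Function.Injective ι := N.subtype_injective.comp e.symm.injective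
      apply hι
      rw [map_mul, map_mul]
      exact (hcent _).mpr hq w
    exact Quat.center q (key _) (key _)

end Cfsg.Agent.SharplyLinear
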