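import Cfsg.Agent.Lib.SharplyLinear.Regular
import Cfsg.Agent.Lib.SharplyLinear.IndexTwo

/-!
# Regular linear groups with an irreducible cyclic normal subgroup are semilinear
-/

set_option autoImplicit false
set_option linter.style.haveILetI false

namespace Cfsg.Agent.SharplyLinear

variable {p : ℕ} [Fact p.Prime] {V : Type*} [AddCommGroup V] [Module (ZMod p) V] [Finite V] [Nontrivial V]
variable {H : Subgroup (V ≃ₗ[ZMod p] V)}

/-- The linear map underlying an element of `H`. -/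
def lin (h : H) : Module.End (ZMod p) V := ((h : V ≃ₗ[ZMod p] V) : V →ₗ[ZMod p] V)

omit [Finite V] [Nontrivial V] in
theorem lin_mul (h k : H) : lin (h * k) = lin h * lin k := rfl

omit [Finite V] [Nontrivial V] in
theorem lin_one : lin (1 : H) = 1 := rfl

theorem exists_semilinear (A : Subgroup H) [A.Normal]
    [IsMulCommutative A] (hirr : ∀ W : Submodule (ZMod p) V, Inv A W → W = ⊥ ∨ W = ⊤) :
    ∃ (F : Type) (_ : Field F) (_ : Fintype F) (e : V ≃+ F),
      ∀ h : H, ∃ (a : F) (σ : F ≃+* F), ∀ v : V, e ((h : V ≃ₗ[ZMod p] V) v) = a * σ (e v) := by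
  classical
  set R : Subring (Module.End (ZMod p) V) := Subring.centralizer (Set.range fun a : A => lin (a : H)) with hR
  have hmem : ∀ f, f ∈ R ↔ ∀ a : A, lin (a : H) * f = f * lin (a : H) := fun f => by
    rw [hR, Subring.mem_centralizer_iff]
    exact ⟨fun h a => h _ ⟨a, rfl⟩, fun h => by rintro _ ⟨a, rfl⟩; exact h a⟩
  have hinj : ∀ f ∈ R, f ≠ 0 → Function.Injective f := by
    intro f hf hf0
    rw [← LinearMap.ker_eq_bot]
    refine (hirr _ fun a ha v hv => ?_).resolve_right fun e => hf0 (LinearMap.ker_eq_top.mp e)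
    rw [LinearMap.mem_ker] at hv ⊢
    have := LinearMap.congr_fun ((hmem f).mp hf ⟨a, ha⟩) v
    simp only [Module.End.mul_apply] at this
    rw [← show lin a v = ((a : H) : V ≃ₗ[ZMod p] V) v from rfl, ← this, hv, map_zero]
  haveI : Finite (Module.End (ZMod p) V) :=
    Finite.of_injective (fun f : Module.End (ZMod p) V => (⇑f : V → V)) DFunLike.coe_injective
  obtain ⟨v₀, hv₀⟩ := exists_ne (0 : V)
  haveI : Nontrivial R := ⟨⟨1, 0, fun h => hv₀ (by
    simpa using LinearMap.congr_fun (congrArg Subtype.val h) v₀)⟩⟩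
  haveI : NoZeroDivisors R := ⟨fun {f g} hfg => by
    by_contra hcon
    rw [not_or] at hcon
    refine hcon.2 (Subtype.ext (LinearMap.ext fun x => hinj f f.2 (fun h => hcon.1 (Subtype.ext h)) ?_))
    have := LinearMap.congr_fun (congrArg Subtype.val hfg) x
    simpa using this⟩
  haveI : IsDomain R := NoZeroDivisors.to_isDomain _
  letI : Field R := (Finite.isDomain_to_isField R).toField
  -- evaluation at `v₀`
  let ev : R →+ V := AddMonoidHom.mk' (fun f => (f : Module.End (ZMod p) V) v₀) fun f g => rfl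
  have hA : ∀ a : A, lin (a : H) ∈ R := fun a => (hmem _).mpr fun b => by
    rw [← lin_mul, ← lin_mul]
    exact congrArg lin (congrArg Subtype.val (mul_comm' b a))
  have hev : Function.Bijective ev := by
    refine ⟨(injective_iff_map_eq_zero ev).mpr fun f hf => ?_, fun v => ?_⟩
    · by_contra hf0
      exact hv₀ (hinj f f.2 (fun e => hf0 (Subtype.ext e))
        (show (f : Module.End (ZMod p) V) v₀ = (f : Module.End (ZMod p) V) 0 by rw [map_zero]; exact hf))
    · let W : Submodule (ZMod p) V :=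
        { carrier := Set.range ev
          add_mem' := by rintro _ _ ⟨f, rfl⟩ ⟨g, rfl⟩; exact ⟨f + g, map_add ev f g⟩
          zero_mem' := ⟨0, map_zero ev⟩
          smul_mem' := by
            rintro c _ ⟨f, rfl⟩
            exact ⟨⟨c • (f : Module.End (ZMod p) V), (hmem _).mpr fun a => by
              rw [mul_smul_comm, smul_mul_assoc, (hmem _).mp f.2 a]⟩, rfl⟩ }
      have hW : W = ⊤ := by
        refine (hirr W fun a ha x hx => ?_).resolve_left fun e => hv₀ ?_
        · obtain ⟨f, rfl⟩ := hx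
          exact ⟨⟨_, hA ⟨a, ha⟩⟩ * f, rfl⟩
        · have h1 : v₀ ∈ W := ⟨1, rfl⟩
          rw [e] at h1
          simpa using h1
      exact (hW ▸ Submodule.mem_top : v ∈ W)
  let f₀ : R ≃+ V := AddEquiv.ofBijective ev hev
  -- conjugation by `H`
  have hconj : ∀ (h : H) (f : R), lin h * (f : Module.End (ZMod p) V) * lin h⁻¹ ∈ R := fun h f => (hmem _).mpr fun a => by
    have e := (hmem _).mp f.2 ⟨h⁻¹ * (a : H) * h, by simpa using ‹A.Normal›.conj_mem _ a.2 h⁻¹⟩
    have key : lin h * (lin (h⁻¹ * (a : H) * h) * (f : Module.End (ZMod p) V)) * lin h⁻¹ =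
        lin h * ((f : Module.End (ZMod p) V) * lin (h⁻¹ * (a : H) * h)) * lin h⁻¹ :=
      congrArg (fun x => lin h * x * lin h⁻¹) e
    calc lin (a : H) * (lin h * f * lin h⁻¹) =
        lin h * (lin (h⁻¹ * (a : H) * h) * (f : Module.End (ZMod p) V)) * lin h⁻¹ := by
          simp only [← mul_assoc, ← lin_mul, mul_inv_cancel, one_mul]
      _ = lin h * ((f : Module.End (ZMod p) V) * lin (h⁻¹ * (a : H) * h)) * lin h⁻¹ := key
      _ = lin h * f * lin h⁻¹ * lin (a : H) := by
          simp only [mul_assoc, ← lin_mul, mul_inv_cancel, mul_one]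
  let σ : H → R ≃+* R := fun h =>
    { toFun := fun f => ⟨lin h * f * lin h⁻¹, hconj h f⟩
      invFun := fun f => ⟨lin h⁻¹ * f * lin h, by simpa using hconj h⁻¹ f⟩
      left_inv := fun f => Subtype.ext (by
        show lin h⁻¹ * (lin h * f * lin h⁻¹) * lin h = f
        rw [← mul_assoc, ← mul_assoc, ← lin_mul, inv_mul_cancel, lin_one, one_mul, mul_assoc,
          ← lin_mul, inv_mul_cancel, lin_one, mul_one])
      right_inv := fun f => Subtype.ext (by
        show lin h * (lin h⁻¹ * f * lin h) * lin h⁻¹ = f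
        rw [← mul_assoc, ← mul_assoc, ← lin_mul, mul_inv_cancel, lin_one, one_mul, mul_assoc,
          ← lin_mul, mul_inv_cancel, lin_one, mul_one])
      map_mul' := fun f g => Subtype.ext (by
        show lin h * (f * g : Module.End (ZMod p) V) * lin h⁻¹ = lin h * f * lin h⁻¹ * (lin h * g * lin h⁻¹)
        rw [show lin h * f * lin h⁻¹ * (lin h * g * lin h⁻¹) = lin h * f * (lin h⁻¹ * lin h) * g * lin h⁻¹ by
          simp only [mul_assoc], ← lin_mul, inv_mul_cancel, lin_one, mul_one, ← mul_assoc])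
      map_add' := fun f g => Subtype.ext (by
        show lin h * (f + g : Module.End (ZMod p) V) * lin h⁻¹ = lin h * f * lin h⁻¹ + lin h * g * lin h⁻¹
        rw [mul_add, add_mul]) }
  have key : ∀ (h : H) (v : V),
      f₀.symm ((h : V ≃ₗ[ZMod p] V) v) = σ h (f₀.symm v) * f₀.symm ((h : V ≃ₗ[ZMod p] V) v₀) := by
    intro h v
    apply f₀.injective
    rw [f₀.apply_symm_apply]
    show _ = (lin h * (f₀.symm v : R) * lin h⁻¹ : Module.End (ZMod p) V)
      ((f₀.symm ((h : V ≃ₗ[ZMod p] V) v₀) : Module.End (ZMod p) V) v₀)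
    rw [show (f₀.symm ((h : V ≃ₗ[ZMod p] V) v₀) : Module.End (ZMod p) V) v₀ = (h : V ≃ₗ[ZMod p] V) v₀ from
      f₀.apply_symm_apply _]
    show _ = lin h ((f₀.symm v : Module.End (ZMod p) V) ((lin h⁻¹ * lin h) v₀))
    rw [← lin_mul, inv_mul_cancel, lin_one, Module.End.one_apply,
      show (f₀.symm v : Module.End (ZMod p) V) v₀ = v from f₀.apply_symm_apply v]
    rfl
  let E := equivShrink.{0} R
  letI : Field (Shrink.{0} R) := E.symm.field
  letI := Fintype.ofFinite (Shrink.{0} R)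
  let eR : R ≃+* Shrink.{0} R := (E.symm.ringEquiv).symm
  refine ⟨Shrink.{0} R, inferInstance, inferInstance, f₀.symm.trans eR.toAddEquiv, fun h => ?_⟩
  refine ⟨eR (f₀.symm ((h : V ≃ₗ[ZMod p] V) v₀)), (eR.symm.trans (σ h)).trans eR, fun v => ?_⟩
  show eR (f₀.symm ((h : V ≃ₗ[ZMod p] V) v)) = _
  rw [key, map_mul, mul_comm]
  show _ = _ * eR (σ h (eR.symm (eR (f₀.symm v))))
  rw [eR.symm_apply_apply]

/-- Index two in the semilinear case. -/
theorem exists_index_two_of_semilinear [Finite H]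
    (hreg : ∀ v w : V, v ≠ 0 → w ≠ 0 → ∃! h : H, (h : V ≃ₗ[ZMod p] V) v = w) (hp : p ≠ 2)
    (A : Subgroup H) [A.Normal] (hcyc : IsCyclic A)
    (hirr : ∀ W : Submodule (ZMod p) V, Inv A W → W = ⊥ ∨ W = ⊤) :
    ∃ M : Subgroup H, M.Normal ∧ M.index = 2 := by
  classical
  haveI : IsMulCommutative A := inferInstance
  have hA : Irr A (⊤ : Submodule (ZMod p) V) := ⟨top_ne_bot, fun _ _ _ _ => Submodule.mem_top, fun W _ hW => hirr W hW⟩
  set C := Subgroup.centralizer (A : Set H)
  have hAC : A ≤ C := Subgroup.le_centralizer A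
  haveI : IsMulCommutative C := ⟨⟨fun a b => by
    have hmem : ∀ c : C, (((c : H) : V ≃ₗ[ZMod p] V) : V →ₗ[ZMod p] V).restrict
        (p := (⊤ : Submodule (ZMod p) V)) (q := ⊤) (fun v _ => Submodule.mem_top) ∈
          commutant A hA.2.1 := fun c =>
      mem_commutant.mpr fun n w => Subtype.ext
        (LinearEquiv.congr_fun (congrArg Subtype.val (Subgroup.mem_centralizer_iff.mp c.2 n n.2)) (w : V))
    refine Subtype.ext (Subtype.ext (LinearEquiv.ext fun v => ?_))
    exact congrArg Subtype.val (LinearMap.congr_fun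
      (commutant_comm hA _ _ (hmem a) (hmem b)) ⟨v, Submodule.mem_top⟩)⟩⟩
  have hC : Irr C (⊤ : Submodule (ZMod p) V) :=
    ⟨top_ne_bot, fun _ _ _ _ => Submodule.mem_top, fun W _ hW => hirr W fun a ha => hW a (hAC ha)⟩
  haveI : IsCyclic C := (cyclic_of_irr hreg hC).1
  refine exists_index_two_of_cyclic_normal C (fun x y => ?_) ?_
  · obtain ⟨g, hg⟩ := hcyc.exists_generator
    have hpow : ∀ x : H, ∃ i : ℤ, x * g * x⁻¹ = (g : H) ^ i := fun x => by
      obtain ⟨i, hi⟩ := hg ⟨x * g * x⁻¹, ‹A.Normal›.conj_mem _ g.2 x⟩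
      exact ⟨i, (congrArg Subtype.val hi.symm).trans (Subgroup.coe_zpow A g i)⟩
    have hx : ∀ x y : H, x * (y * g * y⁻¹) * x⁻¹ = y * (x * g * x⁻¹) * y⁻¹ := by
      intro x y
      obtain ⟨i, hi⟩ := hpow x
      obtain ⟨j, hj⟩ := hpow y
      rw [hi, hj, ← conj_zpow, hi, ← conj_zpow, hj, ← zpow_mul, ← zpow_mul, mul_comm]
    have hfix : (x * y * x⁻¹ * y⁻¹) * g * (x * y * x⁻¹ * y⁻¹)⁻¹ = g := by
      have e := hx x y
      have e2 : x * y * g * (x * y)⁻¹ = y * x * g * (y * x)⁻¹ := by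
        calc x * y * g * (x * y)⁻¹ = x * (y * g * y⁻¹) * x⁻¹ := by group
          _ = y * x * g * (y * x)⁻¹ := by rw [e]; group
      obtain ⟨g', hg'⟩ : ∃ g' : H, g' = (y * x)⁻¹ := ⟨_, rfl⟩
      calc (x * y * x⁻¹ * y⁻¹) * g * (x * y * x⁻¹ * y⁻¹)⁻¹
          = (x * y) * ((y * x)⁻¹ * g * (y * x)) * (x * y)⁻¹ := by group
        _ = g := by
          have key : ∀ i : ℤ, (x * y) * (g : H) ^ i * (x * y)⁻¹ = (y * x) * (g : H) ^ i * (y * x)⁻¹ := by
            intro i; rw [← conj_zpow, ← conj_zpow, e2]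
          obtain ⟨i, hi⟩ := hpow (y * x)⁻¹
          rw [inv_inv] at hi
          rw [hi, key, ← hi]; group
    refine Subgroup.mem_centralizer_iff.mpr fun a ha => ?_
    obtain ⟨i, hi⟩ := hg ⟨a, ha⟩
    have ha' : a = (g : H) ^ i := (congrArg Subtype.val hi.symm).trans (Subgroup.coe_zpow A g i)
    refine (mul_inv_eq_iff_eq_mul.mp ?_).symm
    rw [ha', ← conj_zpow, hfix]
  · obtain ⟨v, hv⟩ := exists_ne (0 : V)
    have h1 := card_eq hreg hv
    rw [Module.natCard_eq_pow_finrank (K := ZMod p) (V := V), Nat.card_zmod] at h1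
    have hodd : Odd (p ^ Module.finrank (ZMod p) V) := ((Fact.out : p.Prime).odd_of_ne_two hp).pow
    rw [← h1, Nat.odd_add_one, Nat.not_odd_iff_even] at hodd
    exact even_iff_two_dvd.mp hodd

end Cfsg.Agent.SharplyLinear
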